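import Cfsg.Agent.Lib.InvF4.Recur

/-!
Certificates for the classes of involutions of a doubly laced datum in characteristic two, and the invariant
of the restriction to a stable coordinate subspace.
-/

set_option autoImplicit false

namespace Cfsg.Agent.Lib.InvF4

open Cfsg.Lie Cfsg.Agent.Lib.Chev Cfsg.Agent.Lib.ChevCent
open Cfsg.Agent.Lib.InvE66 (prodX OrbitTab chkMove colW colX appl toVec word_col mulVec_toVec)
open Cfsg.Agent.Lib.InvE66.Laced (xg_inv_two xg_mul_self)
open scoped Matrix

/-- Positive roots with pairwise even commutator terms. -/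
def chkFlat (D : ChevalleyDatum) (C : Cert) : List ℕ → Bool
  | [] => true
  | a :: l => Nat.ble (D.nroots / 2) a && Nat.blt a D.nroots &&
      l.all (fun b => evenTerms C a b) && chkFlat D C l

def chkReps (D : ChevalleyDatum) (C : Cert) (T : OrbitTab) : Bool :=
  T.reps.all (chkFlat D C) && T.reps.contains []

def chkRows (D : ChevalleyDatum) (C : Cert) (T : OrbitTab) : Bool :=
  allN T.reps.length fun i => allN D.nroots fun γ =>
    (T.reps.getD i []).any (fun β => decide (prr D C β γ ≠ 0)) ||
      (T.reps.getD i []).any (fun β => (T.reps.getD i []).any fun β' =>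
        !Nat.beq β β' && decide (prr D C β β' ≠ 0)) ||
      (T.rows.getD i []).any fun s => Nat.beq s.1 γ && chkMove D C T s.2.1 (γ :: T.reps.getD i []) s.2.2

def chkReds (D : ChevalleyDatum) (C : Cert) (T : OrbitTab) : Bool :=
  allN T.reps.length fun i => Nat.blt i T.keep ||
    let d := T.reds.getD (i - T.keep) ([], [], [], 0)
    d.1.all (fun r => Nat.blt r D.nroots) && chkFlat D C d.2.1 &&
      allN (D.nroots + D.rank) (fun c => Nat.beq (colW D C (d.1 ++ T.reps.getD i [] ++ d.1.reverse) c)
        (colW D C d.2.1 c)) &&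
      Nat.blt d.2.2.2 i && chkMove D C T d.2.2.1 d.2.1 d.2.2.2

/-- The columns of the coefficient matrices of all root elements keep the masked coordinates. -/
def chkStable (D : ChevalleyDatum) (C : Cert) (m : ℕ) : Bool :=
  allN D.nroots fun r => allN (D.nroots + D.rank) fun c => !m.testBit c ||
    allN 4 fun k => (eCol D C r c k).all fun e => e.2 % 2 == 0 || m.testBit e.1

/-- The projection to the masked coordinates. -/
def maskMat (D : ChevalleyDatum) (F : Type*) [Field F] (m : ℕ) : Matrix D.Idx D.Idx F :=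
  Matrix.diagonal fun x => if m.testBit (idxCode D x) then 1 else 0

variable {D : ChevalleyDatum} {C : Cert} {F : Type*} [Field F]

namespace Doubly

variable (h : Doubly D C)
include h

local notation "X" => xg h.toRooted.toChecked
local notation "PX" => prodX h.toRooted.toChecked F

theorem prodX_append (L L' : List ℕ) : PX (L ++ L') = PX L * PX L' := word_append _ _ _ _

theorem prodX_nil : PX [] = 1 := by simp [prodX, word]

theorem prodX_reverse [CharP F 2] : ∀ L : List ℕ, PX L.reverse = (PX L)⁻¹
  | [] => by simp [prodX, word]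
  | a :: L => by
    rw [List.reverse_cons, h.prodX_append, prodX_reverse L, h.prodX_cons, h.prodX_cons, h.prodX_nil, mul_one,
      mul_inv_rev, xg_inv_two]

theorem prr_perm : ∀ {W : List ℕ}, IsWord D W → ∀ {r s : ℕ}, r < D.nroots → s < D.nroots →
    prr D C (perm C W r) (perm C W s) = prr D C r s
  | [], _, _, _, _, _ => rfl
  | i :: W, hW, r, s, hr, hs => by
    have hc := h.toRooted.toChecked
    have hi := hW.cons.1
    have hr' := hc.perm_lt hW.cons.2 hr
    have hs' := hc.perm_lt hW.cons.2 hs
    rw [perm_cons, perm_cons, (h.pair (hc.refl_lt hi hr') (hc.refl_lt hi hs')).1, hc.pairing_refl hi hr' hs',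
      ← (h.pair hr' hs').1, prr_perm hW.cons.2 hr hs]

theorem prodX_mem {L : List ℕ} (hL : ∀ r ∈ L, r < D.nroots) : PX L ∈ D.group F :=
  rootGen_le_group (S := {r | r ∈ L}) hL (word_mem _ (fun _ hr => hr) _)

theorem nS_mem [CharP F 2] {i : ℕ} (hi : i < D.rank) : nS h.toRooted.toChecked F i ∈ D.group F := by
  have hc := h.toRooted.toChecked
  have hp := hc.simple_lt hi
  have e : nS h.toRooted.toChecked F i = PX [D.simple i, ng D (D.simple i), D.simple i] := by
    refine Units.ext ?_
    rw [coe_nS _ hi, h.prodX_cons, h.prodX_cons, h.prodX_cons, h.prodX_nil, mul_one, Units.val_mul, Units.val_mul,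
      coe_xg, coe_xg]
    simp only [ChevalleyDatum.nMat, ChevalleyDatum.nWord, ChevalleyDatum.wordMat, hc.neg_eq hp, List.map_cons,
      List.map_nil, List.prod_cons, List.prod_nil, mul_one, inv_one, CharTwo.neg_eq]
  rw [e]
  exact h.prodX_mem (by simp [hp, Checked.ng_lt hp])

theorem nProd_mem [CharP F 2] {W : List ℕ} (hW : IsWord D W) : nProd h.toRooted.toChecked F W ∈ D.group F :=
  list_prod_mem fun x hx => by
    obtain ⟨i, hi, rfl⟩ := List.mem_map.1 hx
    exact h.nS_mem (hW i hi)

theorem nProd_conj [CharP F 2] {W : List ℕ} (hW : IsWord D W) : ∀ S : List ℕ, (∀ r ∈ S, r < D.nroots) →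
    nProd h.toRooted.toChecked F W * PX S * (nProd h.toRooted.toChecked F W)⁻¹ = PX (S.map (perm C W))
  | [], _ => by simp [prodX, word]
  | a :: S, hS => by
    rw [List.map_cons, h.prodX_cons, h.prodX_cons, ← nProd_conj hW S fun r hr => hS r (List.mem_cons_of_mem _ hr)]
    have ha := hS a List.mem_cons_self
    have e : nProd h.toRooted.toChecked F W * X a 1 * (nProd h.toRooted.toChecked F W)⁻¹ = X (perm C W a) 1 := by
      rw [mul_inv_eq_iff_eq_mul]
      refine Units.ext ?_
      rw [Units.val_mul, Units.val_mul, coe_xg, coe_xg, h.toRooted.toChecked.nProd_mul_x hW ha, weta_cast,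
        one_mul]
    rw [← e]
    group

omit h in
theorem chkFlat_spec : ∀ {L : List ℕ}, chkFlat D C L = true →
    (∀ r ∈ L, r ∈ posSet D) ∧ L.Pairwise (fun a b => evenTerms C a b = true)
  | [], _ => ⟨by simp, List.Pairwise.nil⟩
  | a :: l, hb => by
    simp only [chkFlat, Bool.and_eq_true, Nat.ble_eq, Nat.blt_eq, List.all_eq_true] at hb
    obtain ⟨p, q⟩ := chkFlat_spec hb.2
    refine ⟨fun r hr => ?_, List.Pairwise.cons hb.1.2 q⟩
    rcases List.mem_cons.1 hr with rfl | hr
    · exact hb.1.1
    · exact p r hr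

theorem flat_commute [CharP F 2] {L : List ℕ} (hb : chkFlat D C L = true) :
    (L.map fun r => X r (1 : F)).Pairwise Commute := by
  obtain ⟨p, q⟩ := chkFlat_spec hb
  rw [List.pairwise_map]
  refine List.Pairwise.imp_of_mem (fun {a b} ha hb' e => ?_) q
  exact xg_commute h.toRooted.toChecked (p a ha).2 (p b hb').2
    (Checked.ne_ng_of_pos (p a ha) (p b hb') h.toRooted.toChecked.two_mul_half) (Or.inr e) 1 1

theorem prodX_perm [CharP F 2] {S R : List ℕ} (hR : chkFlat D C R = true) (e : S.Perm R) : PX S = PX R := by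
  simp only [prodX, word]
  exact (List.Perm.prod_eq' (e.symm.map _) (h.flat_commute hR)).symm

theorem prodX_sq [CharP F 2] : ∀ {L : List ℕ}, chkFlat D C L = true → PX L * PX L = 1
  | [], _ => by simp [prodX, word]
  | a :: l, hb => by
    have hcm := h.flat_commute (F := F) hb
    rw [List.map_cons, List.pairwise_cons] at hcm
    simp only [chkFlat, Bool.and_eq_true] at hb
    have hc : Commute (X a (1 : F)) (PX l) := Commute.list_prod_right _ _ fun y hy => hcm.1 y hy
    rw [h.prodX_cons, ← Commute.mul_mul_mul_comm hc, xg_mul_self, one_mul]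
    exact prodX_sq hb.2

section Tab

variable {T : OrbitTab} (h1 : chkReps D C T = true) (h2 : chkRows D C T = true) (h3 : chkReds D C T = true)

include h1 in
theorem rep_flat (j : ℕ) : chkFlat D C (T.reps.getD j []) = true := by
  simp only [chkReps, Bool.and_eq_true, List.all_eq_true] at h1
  by_cases hj : j < T.reps.length
  · rw [List.getD_eq_getElem _ _ hj]
    exact h1.1 _ (List.getElem_mem _)
  · rw [List.getD_eq_default _ _ (by omega)]
    rfl

include h1 h2 in
theorem exists_move : ∀ M : List ℕ, (∀ r ∈ M, r < D.nroots) → M.Pairwise (fun a b => prr D C a b = 0) →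
    ∃ W, IsWord D W ∧ ∃ j < T.reps.length, (M.map (perm C W)).Perm (T.reps.getD j [])
  | [], _, _ => by
    simp only [chkReps, Bool.and_eq_true, List.contains_iff_mem] at h1
    obtain ⟨j, hj, e⟩ := List.mem_iff_getElem.1 h1.2
    exact ⟨[], by simp [IsWord], j, hj, by rw [List.getD_eq_getElem _ _ hj, e]; rfl⟩
  | γ :: M, hM, hp => by
    have hc := h.toRooted.toChecked
    rw [List.pairwise_cons] at hp
    obtain ⟨W, hW, j, hj, e⟩ := exists_move M (fun r hr => hM r (List.mem_cons_of_mem _ hr)) hp.2
    have hγ := hM γ List.mem_cons_self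
    have hγ' := hc.perm_lt hW hγ
    have hb := h2
    simp only [chkRows, allN_iff, Bool.or_eq_true, List.any_eq_true, Bool.and_eq_true, natBeq_iff,
      decide_eq_true_eq, Bool.not_eq_true', ← Bool.not_eq_true] at hb
    rcases hb j hj _ hγ' with (⟨β, hβ, hap⟩ | ⟨β, hβ, β', hβ', hne, hap⟩) | ⟨s, hs, hs1, hs2⟩
    · obtain ⟨a, ha, rfl⟩ := List.mem_map.1 (e.mem_iff.2 hβ)
      have ha' := hM a (List.mem_cons_of_mem _ ha)
      rw [h.prr_perm hW ha' hγ] at hap
      exact absurd (h.prr_zero_comm hγ ha' (hp.1 a ha)) hap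
    · obtain ⟨a, ha, rfl⟩ := List.mem_map.1 (e.mem_iff.2 hβ)
      obtain ⟨b, hb', rfl⟩ := List.mem_map.1 (e.mem_iff.2 hβ')
      have hab : a ≠ b := fun e' => hne (by rw [e'])
      rw [h.prr_perm hW (hM a (List.mem_cons_of_mem _ ha)) (hM b (List.mem_cons_of_mem _ hb'))] at hap
      refine absurd ?_ hap
      rcases List.pairwise_iff_getElem.1 hp.2, List.mem_iff_getElem.1 ha, List.mem_iff_getElem.1 hb' with
        ⟨hpw, ⟨x, hx, ex⟩, ⟨y, hy, ey⟩⟩
      rcases lt_trichotomy x y with l | l | l
      · rw [← ex, ← ey]; exact hpw x y hx hy l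
      · subst l; exact absurd (ex.symm.trans ey) hab
      · rw [← ex, ← ey]
        exact h.prr_zero_comm (hM _ (List.mem_cons_of_mem _ (List.getElem_mem _)))
          (hM _ (List.mem_cons_of_mem _ (List.getElem_mem _))) (hpw y x hy hx l)
    · simp only [chkMove, Bool.and_eq_true, List.all_eq_true, Nat.blt_eq, List.isPerm_iff] at hs2
      refine ⟨s.2.1 ++ W, IsWord.append hs2.1.1 hW, s.2.2, hs2.1.2, List.Perm.trans ?_ hs2.2⟩
      have : ∀ L : List ℕ, L.map (perm C (s.2.1 ++ W)) = (L.map (perm C W)).map (perm C s.2.1) := fun L => by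
        rw [List.map_map]; exact List.map_congr_left fun x _ => perm_append _ _ _
      rw [this, List.map_cons]
      exact ((e.cons (perm C W γ))).map _

include h1 h3 in
theorem exists_class [CharP F 2] : ∀ j < T.reps.length, ∃ k < T.keep,
    ∃ g ∈ D.group F, g * PX (T.reps.getD j []) * g⁻¹ = PX (T.reps.getD k []) := by
  intro j
  induction j using Nat.strong_induction_on with
  | _ j ih =>
    intro hj
    have hb := h3
    simp only [chkReds, allN_iff, Bool.or_eq_true, Nat.blt_eq, Bool.and_eq_true, List.all_eq_true,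
      natBeq_iff] at hb
    rcases hb j hj with hk | ⟨⟨⟨⟨hg, hflat⟩, hcol⟩, hlt⟩, hmove⟩
    · exact ⟨j, hk, 1, one_mem _, by group⟩
    set d := T.reds.getD (j - T.keep) ([], [], [], 0)
    simp only [chkMove, Bool.and_eq_true, List.all_eq_true, Nat.blt_eq, List.isPerm_iff] at hmove
    obtain ⟨k, hk, g, hgm, eg⟩ := ih _ hlt hmove.1.2
    have hrep := chkFlat_spec (h.rep_flat h1 j)
    have hT' := chkFlat_spec hflat
    have e1 : PX d.1 * PX (T.reps.getD j []) * (PX d.1)⁻¹ = PX d.2.1 := by
      rw [← h.prodX_reverse, ← h.prodX_append, ← h.prodX_append]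
      refine Units.ext (matrix_ext fun c hc => ?_)
      rw [word_col h.toRooted.toChecked ?_, word_col h.toRooted.toChecked fun r hr => (hT'.1 r hr).2, hcol c hc]
      intro r hr
      simp only [List.mem_append, List.mem_reverse] at hr
      rcases hr with (hr | hr) | hr
      · exact hg r hr
      · exact (hrep.1 r hr).2
      · exact hg r hr
    have e2 := h.nProd_conj (F := F) (W := d.2.2.1) hmove.1.1 d.2.1 fun r hr => (hT'.1 r hr).2
    rw [h.prodX_perm (h.rep_flat h1 _) hmove.2] at e2
    refine ⟨k, hk, g * nProd h.toRooted.toChecked F d.2.2.1 * PX d.1,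
      mul_mem (mul_mem hgm (h.nProd_mem hmove.1.1)) (h.prodX_mem hg), ?_⟩
    rw [← eg, ← e2, ← e1]
    group

include h1 h2 h3 in
/-- Every involution is conjugate to one of the kept representatives other than the empty one. -/
theorem exists_nontrivial_rep [Fintype F] [CharP F 2] (h0 : T.reps.getD 0 [] = []) {g : GL D.Idx F}
    (hg : g ∈ D.group F) (hord : orderOf g = 2) :
    ∃ k, 1 ≤ k ∧ k < T.keep ∧ ∃ z ∈ D.group F, z * g * z⁻¹ = PX (T.reps.getD k []) := by
  obtain ⟨z, hz, M, -, hM, hMp, e⟩ := h.exists_orth_group hg hord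
  obtain ⟨W, hW, j, hj, eW⟩ := h.exists_move h1 h2 M (fun r hr => (hM r hr).2) hMp
  have e2 := h.nProd_conj (F := F) hW M fun r hr => (hM r hr).2
  rw [h.prodX_perm (h.rep_flat h1 j) eW] at e2
  obtain ⟨k, hk, x, hx, e3⟩ := h.exists_class (F := F) h1 h3 j hj
  have e4 : x * nProd h.toRooted.toChecked F W * z * g * (x * nProd h.toRooted.toChecked F W * z)⁻¹ =
      PX (T.reps.getD k []) := by rw [← e3, ← e2, ← e]; group
  refine ⟨k, Nat.one_le_iff_ne_zero.2 fun hk0 => ?_, hk, _, mul_mem (mul_mem hx (h.nProd_mem hW)) hz, e4⟩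
  subst hk0
  rw [h0, h.prodX_nil, conj_eq_one_iff] at e4
  subst e4
  rw [orderOf_one] at hord
  omega

end Tab

/-! ### The invariant -/

theorem xg_stable [CharP F 2] {m : ℕ} (hm : chkStable D C m = true) {r : ℕ} (hr : r < D.nroots) (t : F) :
    (X r t : Matrix D.Idx D.Idx F) * maskMat D F m =
      maskMat D F m * (X r t : Matrix D.Idx D.Idx F) * maskMat D F m := by
  have hentry : ∀ x y : D.Idx, m.testBit (idxCode D y) = true → m.testBit (idxCode D x) = false →
      (X r t : Matrix D.Idx D.Idx F) x y = 0 := by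
    intro x y hy hx
    have hb := hm
    simp only [chkStable, allN_iff, Bool.or_eq_true, Bool.not_eq_true', List.all_eq_true, beq_iff_eq] at hb
    have hall := (hb r hr (idxCode D y) (idxCode_lt y)).resolve_left (by rw [hy]; simp)
    have e := congrFun (h.toRooted.toChecked.x_mulVec_bv (F := F) hr (idxCode_lt y) t) x
    rw [mulVec_bv, ← coe_xg h.toRooted.toChecked] at e
    simp only at e
    rw [e, Finset.sum_apply]
    refine Finset.sum_eq_zero fun k hk => ?_
    have gen : ∀ l : List (ℕ × ℤ), (∀ a ∈ l, a.2 % 2 = 0 ∨ m.testBit a.1 = true) → evalC D F l x = 0 := by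
      intro l hl
      induction l with
      | nil => rfl
      | cons a l ih =>
        have e1 : evalC D F (a :: l) = (a.2 : F) • bv D F a.1 + evalC D F l := by simp [evalC]
        rw [e1, Pi.add_apply, ih fun b hb => hl b (List.mem_cons_of_mem _ hb), add_zero]
        rcases hl a List.mem_cons_self with h0 | h0
        · simp [natCast_even (F := F) h0]
        · have : idxCode D x ≠ a.1 := fun e2 => by rw [e2, h0] at hx; simp at hx
          simp [bv, this]
    rw [Pi.smul_apply, gen _ fun a ha => hall k (Finset.mem_range.1 hk) a ha, smul_zero]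
  ext x y
  simp only [maskMat, Matrix.mul_diagonal, Matrix.diagonal_mul]
  cases hy : m.testBit (idxCode D y)
  · simp
  cases hx : m.testBit (idxCode D x)
  · simp [hentry x y hy hx]
  · simp

theorem group_stable [CharP F 2] {m : ℕ} (hm : chkStable D C m = true) {g : GL D.Idx F} (hg : g ∈ D.group F) :
    (g : Matrix D.Idx D.Idx F) * maskMat D F m = maskMat D F m * (g : Matrix D.Idx D.Idx F) * maskMat D F m := by
  have hgen : ∀ x : GL D.Idx F, ∀ (r : Fin D.nroots) (t : F),
      (x : Matrix D.Idx D.Idx F) = D.xMat F r t → x = X r t := fun x r t e =>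
    Units.ext (by rw [e, coe_xg, ChevalleyDatum.x, dif_pos r.2])
  have hidem : maskMat D F m * maskMat D F m = maskMat D F m := by
    rw [maskMat, Matrix.diagonal_mul_diagonal]
    congr 1
    funext x
    split_ifs <;> simp
  induction hg using Subgroup.closure_induction'' with
  | mem x hx =>
    obtain ⟨r, t, e⟩ := hx
    rw [hgen x r t e]
    exact h.xg_stable hm r.2 t
  | inv_mem x hx =>
    obtain ⟨r, t, e⟩ := hx
    rw [hgen x r t e, xg_inv_two]
    exact h.xg_stable hm r.2 t
  | one => simp [hidem]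
  | mul a b _ _ ha hb =>
    rw [Units.val_mul]
    set A := (a : Matrix D.Idx D.Idx F)
    set B := (b : Matrix D.Idx D.Idx F)
    set P := maskMat D F m
    calc A * B * P = A * (B * P) := mul_assoc _ _ _
      _ = A * (P * B * P) := congrArg (A * ·) hb
      _ = A * P * (B * P) := by simp only [mul_assoc]
      _ = P * A * P * (B * P) := congrArg (· * (B * P)) ha
      _ = P * A * (P * B * P) := by simp only [mul_assoc]
      _ = P * A * (B * P) := congrArg (P * A * ·) hb.symm
      _ = P * (A * B) * P := by simp only [mul_assoc]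

theorem rank_mask_le [CharP F 2] {m : ℕ} (hm : chkStable D C m = true) {g : GL D.Idx F} (hg : g ∈ D.group F)
    (y : GL D.Idx F) :
    ((((g * y * g⁻¹ : GL D.Idx F) : Matrix D.Idx D.Idx F) - 1) * maskMat D F m).rank ≤
      (((y : Matrix D.Idx D.Idx F) - 1) * maskMat D F m).rank := by
  have hst := h.group_stable (F := F) hm (inv_mem hg)
  have e : (((g * y * g⁻¹ : GL D.Idx F) : Matrix D.Idx D.Idx F) - 1) * maskMat D F m =
      (g : Matrix D.Idx D.Idx F) * (((y : Matrix D.Idx D.Idx F) - 1) * maskMat D F m) *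
        (((g⁻¹ : GL D.Idx F) : Matrix D.Idx D.Idx F) * maskMat D F m) := by
    have e0 : ((g * y * g⁻¹ : GL D.Idx F) : Matrix D.Idx D.Idx F) - 1 =
        (g : Matrix D.Idx D.Idx F) * ((y : Matrix D.Idx D.Idx F) - 1) *
          ((g⁻¹ : GL D.Idx F) : Matrix D.Idx D.Idx F) := by
      rw [mul_sub, sub_mul, mul_one, Units.val_mul, Units.val_mul, g.mul_inv]
    rw [e0]
    set A := (g : Matrix D.Idx D.Idx F)
    set B := ((g⁻¹ : GL D.Idx F) : Matrix D.Idx D.Idx F)
    set P := maskMat D F m
    set Y := (y : Matrix D.Idx D.Idx F) - 1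
    calc A * Y * B * P = A * Y * (B * P) := mul_assoc _ _ _
      _ = A * Y * (P * B * P) := congrArg (A * Y * ·) hst
      _ = A * (Y * P) * (B * P) := by simp only [mul_assoc]
  rw [e]
  exact (Matrix.rank_mul_le_left _ _).trans (Matrix.rank_mul_le_right _ _)

theorem rank_mask_conj [CharP F 2] {m : ℕ} (hm : chkStable D C m = true) {g : GL D.Idx F} (hg : g ∈ D.group F)
    (y : GL D.Idx F) :
    ((((g * y * g⁻¹ : GL D.Idx F) : Matrix D.Idx D.Idx F) - 1) * maskMat D F m).rank =
      (((y : Matrix D.Idx D.Idx F) - 1) * maskMat D F m).rank := by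
  refine le_antisymm (h.rank_mask_le hm hg y) ?_
  have := h.rank_mask_le (F := F) hm (inv_mem hg) (g * y * g⁻¹)
  rwa [show g⁻¹ * (g * y * g⁻¹) * g⁻¹⁻¹ = y by group] at this

end Doubly

end Cfsg.Agent.Lib.InvF4
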