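import Cfsg.Agent.Lib.InvF4.Sweep

/-!
Descent to an indecomposable root for doubly laced data in characteristic two.
-/

set_option autoImplicit false

namespace Cfsg.Agent.Lib.InvF4

open Cfsg.Lie Cfsg.Agent.Lib.Chev Cfsg.Agent.Lib.ChevCent
open Cfsg.Agent.Lib.InvE66 (posOf posOf_subset)
open Cfsg.Agent.Lib.InvE66.Laced (rootGen_le_of_gen xg_inv_two xg_mul_self)
open scoped Matrix

variable {D : ChevalleyDatum} {C : Cert} {F : Type*} [Field F]

namespace Doubly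

variable (h : Doubly D C)
include h

local notation "X" => xg h.toRooted.toChecked
local notation "hgt" => Cfsg.Agent.Lib.Chev.ht D C

variable {Ψ : Set ℕ} (hΨ : IsSub D C Ψ)
include hΨ

theorem exists_indec_sub {γ : ℕ} : ∀ (k : ℕ) (a : ℕ), a ∈ posOf D Ψ → hgt a ≤ k → 1 ≤ prr D C γ a →
    ∃ α, Indec D C Ψ α ∧ 1 ≤ prr D C γ α ∧ hgt α ≤ hgt a := by
  intro k
  induction k with
  | zero =>
    intro a ha hk _
    have := h.toRooted.toChecked.ht_pos ha.2.2 ha.2.1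
    omega
  | succ k ih =>
    intro a ha hk hp
    by_cases hi : Indec D C Ψ a
    · exact ⟨a, hi, hp, le_rfl⟩
    obtain ⟨x, hx, y, hy, e⟩ : ∃ x ∈ posOf D Ψ, ∃ y ∈ posOf D Ψ, cd D C x + cd D C y = cd D C a := by
      by_contra hcon
      exact hi ⟨ha, fun x hx y hy e => hcon ⟨x, hx, y, hy, e⟩⟩
    obtain ⟨hh, hlin⟩ := h.sum_spec hx.2.2 hy.2.2 ha.2.2 e
    have h1 := h.toRooted.toChecked.ht_pos hx.2.2 hx.2.1
    have h2 := h.toRooted.toChecked.ht_pos hy.2.2 hy.2.1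
    have h4 := hlin γ
    by_cases hpx : 1 ≤ prr D C γ x
    · obtain ⟨α, a1, a2, a3⟩ := ih x hx (by push_cast at hk; omega) hpx
      exact ⟨α, a1, a2, by omega⟩
    · obtain ⟨α, a1, a2, a3⟩ := ih y hy (by push_cast at hk; omega) (by omega)
      exact ⟨α, a1, a2, by omega⟩

theorem closed_highSet (k : ℤ) : ClosedSet D C {γ | γ ∈ posOf D Ψ ∧ k ≤ hgt γ} :=
  h.closed_of_terms fun a ha b hb c hc => by
    have hk := h.toRooted.toChecked
    obtain ⟨-, hi, hj, hlin⟩ := hk.cTerms_spec ha.1.2.2 hb.1.2.2 c hc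
    refine ⟨⟨hΨ.tm_mem a ha.1.1 b hb.1.1 c hc, (hk.cTerms_pos ha.1.2 hb.1.2 hc).1⟩, ?_⟩
    rw [hlin _ hk.isAdd_ht]
    have h1 := hk.ht_pos ha.1.2.2 ha.1.2.1
    have h2 := hk.ht_pos hb.1.2.2 hb.1.2.1
    have l1 : hgt a ≤ (c.2.2.1 : ℤ) * hgt a := le_mul_of_one_le_left h1.le (by exact_mod_cast hi)
    have l2 : hgt b ≤ (c.2.2.2 : ℤ) * hgt b := le_mul_of_one_le_left h2.le (by exact_mod_cast hj)
    have := ha.2
    omega

/-- A root of the lowest height which is needed. -/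
theorem exists_needed {k : ℤ} {u : GL D.Idx F}
    (hu : u ∈ rootGen D F {γ | γ ∈ posOf D Ψ ∧ k ≤ hgt γ})
    (hnot : u ∉ rootGen D F {γ | γ ∈ posOf D Ψ ∧ k + 1 ≤ hgt γ}) :
    ∃ γ ∈ posOf D Ψ, hgt γ = k ∧ u ∉ rootGen D F ({a | a ∈ posOf D Ψ ∧ k ≤ hgt a} \ {γ}) := by
  classical
  by_contra hcon
  have hcl : ∀ E : Set ℕ, (∀ a ∈ E, hgt a = k) → ClosedSet D C ({a | a ∈ posOf D Ψ ∧ k ≤ hgt a} \ E) := by
    intro E hE
    refine h.closed_of_terms fun a ha b hb c hc => ?_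
    have hk := h.toRooted.toChecked
    obtain ⟨-, hi, hj, hlin⟩ := hk.cTerms_spec ha.1.1.2.2 hb.1.1.2.2 c hc
    have hs := hlin _ hk.isAdd_ht
    have h1 := hk.ht_pos ha.1.1.2.2 ha.1.1.2.1
    have h2 := hk.ht_pos hb.1.1.2.2 hb.1.1.2.1
    have l1 : hgt a ≤ (c.2.2.1 : ℤ) * hgt a := le_mul_of_one_le_left h1.le (by exact_mod_cast hi)
    have l2 : hgt b ≤ (c.2.2.2 : ℤ) * hgt b := le_mul_of_one_le_left h2.le (by exact_mod_cast hj)
    have := ha.1.2
    exact ⟨⟨⟨hΨ.tm_mem a ha.1.1.1 b hb.1.1.1 c hc, (hk.cTerms_pos ha.1.1.2 hb.1.1.2 hc).1⟩, by omega⟩,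
      fun hmem => by have := hE _ hmem; omega⟩
  have key : ∀ E : Finset ℕ, (∀ a ∈ E, a ∈ posOf D Ψ ∧ hgt a = k) →
      u ∈ rootGen D F ({a | a ∈ posOf D Ψ ∧ k ≤ hgt a} \ (E : Set ℕ)) := by
    intro E
    induction E using Finset.induction with
    | empty => intro _; simpa using hu
    | @insert a E _ ih =>
      intro hE
      have ha := hE a (Finset.mem_insert_self _ _)
      have h1 := ih fun b hb => hE b (Finset.mem_insert_of_mem hb)
      have h2 : u ∈ rootGen D F ({b | b ∈ posOf D Ψ ∧ k ≤ hgt b} \ {a}) := by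
        by_contra h2
        exact hcon ⟨a, ha.1, ha.2, h2⟩
      refine rootGen_mono ?_ (h.toRooted.mem_rootGen_inter (fun b hb => hb.1.1.2) (fun b hb => hb.1.1.2)
        (hcl _ fun b hb => (hE b (Finset.mem_insert_of_mem hb)).2) (hcl {a} fun b hb => hb ▸ ha.2) h1 h2)
      rintro b ⟨⟨hb, h3⟩, -, h4⟩
      exact ⟨hb, by simpa using And.intro h4 h3⟩
  refine hnot (rootGen_mono ?_ (key ((Finset.range D.nroots).filter fun a => a ∈ posOf D Ψ ∧ hgt a = k)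
    fun a ha => (Finset.mem_filter.1 ha).2))
  rintro a ⟨⟨ha, hle⟩, hne⟩
  refine ⟨ha, ?_⟩
  have h5 : hgt a ≠ k := fun e => hne (Finset.mem_filter.2 ⟨Finset.mem_range.2 ha.2.2, ha, e⟩)
  omega

/-- Some conjugate needs an indecomposable root. -/
theorem descend [CharP F 2] : ∀ (k : ℕ) (u : GL D.Idx F), u ∈ rootGen D F (posOf D Ψ) →
    u ∉ rootGen D F {γ | γ ∈ posOf D Ψ ∧ (k : ℤ) + 1 ≤ hgt γ} →
    ∃ g ∈ rootGen D F Ψ, ∃ r, Indec D C Ψ r ∧ g * u * g⁻¹ ∈ rootGen D F (posOf D Ψ) ∧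
      g * u * g⁻¹ ∉ rootGen D F (restSet D Ψ r) := by
  intro k
  induction k with
  | zero =>
    intro u hu hnot
    refine absurd (rootGen_mono ?_ hu) hnot
    intro a ha
    have := h.toRooted.toChecked.ht_pos ha.2.2 ha.2.1
    exact ⟨ha, by push_cast; omega⟩
  | succ k ih =>
    intro u hu hnot
    by_cases hlow : u ∈ rootGen D F {γ | γ ∈ posOf D Ψ ∧ (k : ℤ) + 1 ≤ hgt γ}
    swap
    · exact ih u hu hlow
    have hc := h.toRooted.toChecked
    set S : Set ℕ := {γ | γ ∈ posOf D Ψ ∧ (k : ℤ) + 1 ≤ hgt γ} with hS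
    have hnot' : u ∉ rootGen D F {γ | γ ∈ posOf D Ψ ∧ (k : ℤ) + 1 + 1 ≤ hgt γ} := by
      simpa [add_assoc] using hnot
    obtain ⟨γ, hγ, hγk, hneed⟩ := h.exists_needed hΨ hlow hnot'
    by_cases hi : Indec D C Ψ γ
    · refine ⟨1, one_mem _, γ, hi, by simpa using hu, ?_⟩
      simp only [one_mul, inv_one, mul_one]
      intro hmem
      have hclr : ClosedSet D C (restSet D Ψ γ) := h.closed_of_terms fun a ha b hb c hc' =>
        (h.rest_tm hΨ hi ha hb hc').1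
      refine hneed (rootGen_mono ?_ (h.toRooted.mem_rootGen_inter (fun a ha => ha.1.2) (fun a ha => ha.1.2)
        (h.closed_highSet hΨ _) hclr hlow hmem))
      rintro a ⟨ha, -, hb⟩
      exact ⟨ha, hb⟩
    obtain ⟨x, hx, y, hy, e⟩ : ∃ x ∈ posOf D Ψ, ∃ y ∈ posOf D Ψ, cd D C x + cd D C y = cd D C γ := by
      by_contra hcon
      exact hi ⟨hγ, fun x hx y hy e => hcon ⟨x, hx, y, hy, e⟩⟩
    obtain ⟨hγht, hlin⟩ := h.sum_spec hx.2.2 hy.2.2 hγ.2.2 e
    have hsum := hlin γ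
    rw [h.prr_self hγ.2.2] at hsum
    have hxht := hc.ht_pos hx.2.2 hx.2.1
    have hyht := hc.ht_pos hy.2.2 hy.2.1
    obtain ⟨z, hz, hzγ, hzp⟩ : ∃ z, z ∈ posOf D Ψ ∧ hgt z < hgt γ ∧ 1 ≤ prr D C γ z := by
      by_cases hp : 1 ≤ prr D C γ x
      · exact ⟨x, hx, by omega, hp⟩
      · exact ⟨y, hy, by omega, by omega⟩
    obtain ⟨α, hα, hpα, hle⟩ := h.exists_indec_sub hΨ (γ := γ) (hgt z).toNat z hz
      (by rw [Int.toNat_of_nonneg (le_of_lt (hc.ht_pos hz.2.2 hz.2.1))]) hzp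
    have hαlt : hgt α < (k : ℤ) + 1 := by omega
    have hpα' : 0 < prr D C α γ := h.prr_pos_comm hγ.2.2 hα.1.2.2 (by omega)
    have hsub : ∀ a ∈ S, a ∈ restSet D Ψ α := fun a ha =>
      ⟨ha.1, fun e' => by rw [Set.mem_singleton_iff] at e'; subst e'; exact absurd ha.2 (by omega)⟩
    set W : GL D.Idx F := X α 1 * X (ng D α) 1 * X α 1 with hW
    have hW2 : W * W = 1 := by
      simp only [hW, mul_assoc]
      rw [← mul_assoc (X α (1 : F)) (X α 1), xg_mul_self, one_mul,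
        ← mul_assoc (X (ng D α) (1 : F)) (X (ng D α) 1), xg_mul_self, one_mul, xg_mul_self]
    set u' := W * u * W⁻¹ with hu'
    set S' : Set ℕ := sR D C α '' S with hS'
    have hgen : ∀ (A : Set ℕ), A ⊆ restSet D Ψ α → ∀ v ∈ rootGen D F A,
        W * v * W⁻¹ ∈ rootGen D F (sR D C α '' A) := by
      intro A hA v hv
      induction hv using Subgroup.closure_induction with
      | mem g hg =>
        obtain ⟨a, s, ha, e'⟩ := hg
        rw [show g = X a s from Units.ext (by rw [e', coe_xg]), hW,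
          h.wel_conj hα.1.2.2 a (hA ha).1.2.2 s]
        exact h.xg_mem (Set.mem_image_of_mem _ ha) s
      | one => simp
      | mul v w _ _ hv hw => have := mul_mem hv hw; simpa [mul_assoc] using this
      | inv v _ hv => have := inv_mem hv; simpa [mul_assoc] using this
    have hu'S : u' ∈ rootGen D F S' := hgen S hsub u hlow
    have hu'P : u' ∈ rootGen D F (posOf D Ψ) := rootGen_mono (by
      rintro _ ⟨a, ha, rfl⟩
      exact (h.sR_rest hΨ hα (hsub a ha)).1.1) hu'S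
    have hgΨ : W ∈ rootGen D F Ψ :=
      mul_mem (mul_mem (h.xg_mem hα.1.1 1) (h.xg_mem (hΨ.ng_mem α hα.1.1) 1)) (h.xg_mem hα.1.1 1)
    have hnot'' : u' ∉ rootGen D F S := by
      intro hu''
      have hclS' : ClosedSet D C S' := h.closed_of_terms (by
        rintro _ ⟨a, ha, rfl⟩ _ ⟨b, hb, rfl⟩ c hc'
        obtain ⟨ia, pa, -⟩ := h.sR_rest hΨ hα (hsub a ha)
        obtain ⟨ib, pb, -⟩ := h.sR_rest hΨ hα (hsub b hb)
        obtain ⟨icK, -, -⟩ := h.rest_tm hΨ hα ia ib hc'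
        obtain ⟨-, hi', hj', hlin'⟩ := hc.cTerms_spec ia.1.2.2 ib.1.2.2 c hc'
        obtain ⟨ix, px, -⟩ := h.sR_rest hΨ hα icK
        refine ⟨sR D C α c.1, ⟨ix.1, ?_⟩, h.sR_sR hα.1.2.2 icK.1.2.2⟩
        have e1 := (h.sR_spec hα.1.2.2 icK.1.2.2).2.2.1
        have ea := (h.sR_spec hα.1.2.2 (hsub a ha).1.2.2).2.2.1
        have eb := (h.sR_spec hα.1.2.2 (hsub b hb).1.2.2).2.2.1
        rw [e1, hlin' _ hc.isAdd_ht, hlin' _ (h.isAdd_prr α), pa, pb, ea, eb]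
        have h1 := hc.ht_pos ha.1.2.2 ha.1.2.1
        have h2 := hc.ht_pos hb.1.2.2 hb.1.2.1
        have l1 : hgt a ≤ (c.2.2.1 : ℤ) * hgt a := le_mul_of_one_le_left h1.le (by exact_mod_cast hi')
        have l2 : hgt b ≤ (c.2.2.2 : ℤ) * hgt b := le_mul_of_one_le_left h2.le (by exact_mod_cast hj')
        have := ha.2
        linarith)
      have hmem := h.toRooted.mem_rootGen_inter (S := S') (T := S)
        (by rintro _ ⟨a, ha, rfl⟩; exact (h.sR_rest hΨ hα (hsub a ha)).1.1.2) (fun a ha => ha.1.2) hclS'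
        (h.closed_highSet hΨ _) hu'S hu''
      have hback := hgen (S' ∩ S) (fun a ha => hsub a ha.2) u' hmem
      rw [hu', show W * (W * u * W⁻¹) * W⁻¹ = W * W * u * (W * W)⁻¹ by group,
        hW2, one_mul, inv_one, mul_one] at hback
      refine hneed (rootGen_mono ?_ hback)
      rintro _ ⟨_, ⟨⟨a, ha, rfl⟩, hb⟩, rfl⟩
      rw [h.sR_sR hα.1.2.2 (hsub a ha).1.2.2]
      refine ⟨ha, fun e' => ?_⟩
      rw [Set.mem_singleton_iff] at e'
      subst e'
      have h6 := hb.2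
      rw [(h.sR_spec hα.1.2.2 ha.1.2.2).2.2.1] at h6
      have := hc.ht_pos hα.1.2.2 hα.1.2.1
      nlinarith [h6, hpα', hγk]
    obtain ⟨g, hg, r, hr, h1, h2⟩ := ih u' hu'P hnot''
    refine ⟨g * W, mul_mem hg hgΨ, r, hr, ?_, ?_⟩
    · simpa [hu', mul_assoc] using h1
    · simpa [hu', mul_assoc] using h2

end Doubly

end Cfsg.Agent.Lib.InvF4
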