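import Cfsg.Agent.Lib.InvF4.Classes

/-!
The rank of `(y - 1)` restricted to a coordinate subspace.
-/

set_option autoImplicit false

namespace Cfsg.Agent.Lib.InvF4

open Cfsg.Lie Cfsg.Agent.Lib.Chev Cfsg.Agent.Lib.ChevCent
open Cfsg.Agent.Lib.InvE66 (prodX RankCert colW appl xorUpTo toVec word_col toVec_xor toVec_pow toVec_zero
  rank_of_cert)
open scoped Matrix

def chkRankMask (D : ChevalleyDatum) (C : Cert) (L : List ℕ) (m : ℕ) (R : RankCert) : Bool :=
  let dim := D.nroots + D.rank
  L.all (fun r => Nat.blt r D.nroots) &&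
  allN dim (fun c => decide ((bif m.testBit c then colW D C L c ^^^ 2 ^ c else 0) = R.cols.getD c 0) &&
    decide (xorUpTo (fun i => bif (R.cols.getD c 0).testBit (R.gens.getD i (0, 0, 0)).1
      then (R.gens.getD i (0, 0, 0)).2.1 else 0) R.gens.length = R.cols.getD c 0)) &&
  allN R.gens.length (fun i => Nat.blt (R.gens.getD i (0, 0, 0)).1 dim &&
    decide (appl (fun c => R.cols.getD c 0) dim (R.gens.getD i (0, 0, 0)).2.2 = (R.gens.getD i (0, 0, 0)).2.1) &&
    allN R.gens.length fun j => (R.gens.getD j (0, 0, 0)).2.1.testBit (R.gens.getD i (0, 0, 0)).1 == Nat.beq i j)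

variable {D : ChevalleyDatum} {C : Cert} {F : Type*} [Field F]

theorem rank_mask_eq [CharP F 2] (hh : Checked D C) {L : List ℕ} {m : ℕ} {R : RankCert}
    (hR : chkRankMask D C L m R = true) :
    ((((prodX hh F L : GL D.Idx F) : Matrix D.Idx D.Idx F) - 1) * maskMat D F m).rank = R.gens.length := by
  simp only [chkRankMask, Bool.and_eq_true, List.all_eq_true, Nat.blt_eq, allN_iff, decide_eq_true_eq,
    beq_iff_eq] at hR
  obtain ⟨⟨hL, hcol⟩, hgen⟩ := hR
  refine rank_of_cert (fun c hc => ?_) R.gens (fun c hc => (hcol c hc).2) hgen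
  have e : maskMat D F m *ᵥ bv D F c = if m.testBit c then bv D F c else 0 := by
    funext x
    rw [maskMat, Matrix.mulVec_diagonal]
    by_cases hx : idxCode D x = c
    · subst hx; cases m.testBit (idxCode D x) <;> simp [bv]
    · cases m.testBit c <;> simp [bv, hx]
  rw [← Matrix.mulVec_mulVec, e, ← (hcol c hc).1]
  cases m.testBit c
  · simp [toVec_zero]
  · rw [if_pos rfl, cond_true, toVec_xor, toVec_pow, Matrix.sub_mulVec, Matrix.one_mulVec, word_col hh hL,
      sub_eq_add_neg]
    congr 1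
    funext x
    exact CharTwo.neg_eq _

end Cfsg.Agent.Lib.InvF4
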