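import Cfsg.Agent.Lib.InvE66.Sub

/-!
Doubly laced data over a field of characteristic two: the commutator terms with odd coefficient and the
reflections in arbitrary roots.
-/

set_option autoImplicit false

namespace Cfsg.Agent.Lib.InvF4

open Cfsg.Lie Cfsg.Agent.Lib.Chev Cfsg.Agent.Lib.ChevCent
open Cfsg.Agent.Lib.InvE66 (posOf posOf_subset)
open scoped Matrix

/-- The pairing of the coroot of `r` with `s`, linear in `s`. -/
def prr (D : ChevalleyDatum) (C : Cert) (r s : ℕ) : ℤ :=
  zsum (fun j => D.pairing r (D.simple j) * coef D C j s) D.rank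

/-- The commutator terms with odd coefficient: the root and the two exponents. -/
def od (C : Cert) (r s : ℕ) : List (ℕ × ℕ × ℕ) :=
  ((cTerms C r s).filter fun c => c.2.1 % 2 != 0).map fun c => (c.1, c.2.2.1, c.2.2.2)

/-- The reflection in a root. -/
def sR (D : ChevalleyDatum) (C : Cert) (r s : ℕ) : ℕ :=
  ((List.range D.nroots).find? fun x => decide (cd D C x = cd D C s - prr D C r s * cd D C r)).getD 0

/-- The conditions on a pair of roots. -/
def chkPair (D : ChevalleyDatum) (C : Cert) (r s : ℕ) : Bool :=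
  let p := prr D C r s
  let q := prr D C s r
  let x := sR D C r s
  decide (p = D.pairing r s) && Nat.blt x D.nroots && decide (cd D C x = cd D C s - p * cd D C r) &&
  allN D.rank (fun j => decide (coef D C j x = coef D C j s - p * coef D C j r)) &&
  decide ((p = 0 ↔ q = 0) ∧ (0 < p ↔ 0 < q) ∧ -2 ≤ p ∧ p ≤ 2 ∧ (s = r → p = 2) ∧ (s = ng D r → p = -2)) &&
  (Nat.beq s r || Nat.beq s (ng D r) ||
    (decide ((0 ≤ p → od C r s = []) ∧ p * q ≤ 2) &&
     decide (p = -1 → (od C r s).head? = some (x, 1, 1) ∧ ∀ e ∈ (od C r s).tail, e.2.1 = 1 ∧ e.2.2 = 2) &&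
     decide (p = -2 → (od C r s).map Prod.snd = [(1, 1), (2, 1)] ∧ ((od C r s).map Prod.fst).getLast? = some x)))

def chkEven (D : ChevalleyDatum) (C : Cert) : Bool :=
  allN D.nroots (fun r => allN D.nroots fun s => chkPair D C r s) &&
  allN D.rank (fun i => allN D.nroots fun s => Nat.beq (refl C i s) (sR D C (D.simple i) s)) &&
  allN D.nroots fun a => allN D.nroots fun b => allN D.nroots fun x =>
    !decide (cd D C a + cd D C b = cd D C x) ||
      allN D.rank fun j => decide (coef D C j a + coef D C j b = coef D C j x)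

/-- A rooted datum with these conditions. -/
structure Doubly (D : ChevalleyDatum) (C : Cert) : Prop extends Rooted D C where
  even_ok : chkEven D C = true

variable {D : ChevalleyDatum} {C : Cert} {F : Type*} [Field F]

namespace Doubly

variable (h : Doubly D C)
include h

theorem pair {r s : ℕ} (hr : r < D.nroots) (hs : s < D.nroots) :
    prr D C r s = D.pairing r s ∧ sR D C r s < D.nroots ∧
    cd D C (sR D C r s) = cd D C s - prr D C r s * cd D C r ∧
    (∀ j < D.rank, coef D C j (sR D C r s) = coef D C j s - prr D C r s * coef D C j r) ∧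
    ((prr D C r s = 0 ↔ prr D C s r = 0) ∧ (0 < prr D C r s ↔ 0 < prr D C s r) ∧ -2 ≤ prr D C r s ∧
      prr D C r s ≤ 2 ∧ (s = r → prr D C r s = 2) ∧ (s = ng D r → prr D C r s = -2)) ∧
    (s ≠ r → s ≠ ng D r → ((0 ≤ prr D C r s → od C r s = []) ∧ prr D C r s * prr D C s r ≤ 2) ∧
      (prr D C r s = -1 → (od C r s).head? = some (sR D C r s, 1, 1) ∧
        ∀ e ∈ (od C r s).tail, e.2.1 = 1 ∧ e.2.2 = 2) ∧
      (prr D C r s = -2 → (od C r s).map Prod.snd = [(1, 1), (2, 1)] ∧
        ((od C r s).map Prod.fst).getLast? = some (sR D C r s))) := by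
  have hb := h.even_ok
  simp only [chkEven, Bool.and_eq_true, allN_iff] at hb
  have := hb.1.1 r hr s hs
  simp only [chkPair, Bool.and_eq_true, Bool.or_eq_true, decide_eq_true_eq, natBeq_iff, Nat.blt_eq,
    allN_iff] at this
  obtain ⟨⟨⟨⟨⟨a, b⟩, c⟩, d⟩, e⟩, f⟩ := this
  refine ⟨a, b, c, d, e, fun h1 h2 => ?_⟩
  rcases f with (f | f) | f
  · exact absurd f h1
  · exact absurd f h2
  · exact ⟨f.1.1, f.1.2, f.2⟩

theorem isAdd_prr (r : ℕ) : IsAdd D C (prr D C r) := by
  have := h.toRooted.toChecked.isAdd_sum fun j => D.pairing r (D.simple j)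
  convert this using 1
  funext s
  rw [prr, zsum_eq]

theorem prr_self {r : ℕ} (hr : r < D.nroots) : prr D C r r = 2 := (h.pair hr hr).2.2.2.2.1.2.2.2.2.1 rfl

theorem prr_ng_self {r : ℕ} (hr : r < D.nroots) : prr D C r (ng D r) = -2 :=
  (h.pair hr (Checked.ng_lt hr)).2.2.2.2.1.2.2.2.2.2 rfl

theorem prr_ng {r s : ℕ} (hs : s < D.nroots) : prr D C r (ng D s) = - prr D C r s := (h.isAdd_prr r).map_ng s hs

theorem prr_bounds {r s : ℕ} (hr : r < D.nroots) (hs : s < D.nroots) :
    -2 ≤ prr D C r s ∧ prr D C r s ≤ 2 :=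
  ⟨(h.pair hr hs).2.2.2.2.1.2.2.1, (h.pair hr hs).2.2.2.2.1.2.2.2.1⟩

theorem prr_zero_comm {r s : ℕ} (hr : r < D.nroots) (hs : s < D.nroots) (e : prr D C r s = 0) :
    prr D C s r = 0 := (h.pair hr hs).2.2.2.2.1.1.1 e

theorem prr_pos_comm {r s : ℕ} (hr : r < D.nroots) (hs : s < D.nroots) (e : 0 < prr D C r s) :
    0 < prr D C s r := (h.pair hr hs).2.2.2.2.1.2.1.1 e

theorem prr_nonneg_comm {r s : ℕ} (hr : r < D.nroots) (hs : s < D.nroots) (e : 0 ≤ prr D C r s) :
    0 ≤ prr D C s r := by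
  rcases e.lt_or_eq with e | e
  · exact (h.prr_pos_comm hr hs e).le
  · rw [h.prr_zero_comm hr hs e.symm]

theorem od_nil {r s : ℕ} (hr : r < D.nroots) (hs : s < D.nroots) (hne : s ≠ r) (e : 0 ≤ prr D C r s) :
    od C r s = [] := by
  refine ((h.pair hr hs).2.2.2.2.2 hne fun e' => ?_).1.1 e
  rw [e', h.prr_ng_self hr] at e
  omega

theorem eq_of_cd {r s : ℕ} (hr : r < D.nroots) (hs : s < D.nroots) (e : cd D C r = cd D C s) : r = s := by
  have hc := h.toRooted.toChecked
  have h1 := hc.lt_iff_cd_lt hr hs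
  have h2 := hc.lt_iff_cd_lt hs hr
  omega

theorem sum_spec {a b x : ℕ} (ha : a < D.nroots) (hb : b < D.nroots) (hx : x < D.nroots)
    (e : cd D C a + cd D C b = cd D C x) :
    ht D C x = ht D C a + ht D C b ∧ ∀ r, prr D C r x = prr D C r a + prr D C r b := by
  have hchk := h.even_ok
  simp only [chkEven, Bool.and_eq_true, allN_iff, Bool.or_eq_true, Bool.not_eq_true', decide_eq_true_eq,
    decide_eq_false_iff_not] at hchk
  have hj := (hchk.2 a ha b hb x hx).resolve_left (fun hn => hn e)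
  have lin : ∀ w : ℕ → ℤ, ∑ j ∈ Finset.range D.rank, w j * coef D C j x =
      (∑ j ∈ Finset.range D.rank, w j * coef D C j a) + ∑ j ∈ Finset.range D.rank, w j * coef D C j b :=
    fun w => by
      rw [← Finset.sum_add_distrib]
      exact Finset.sum_congr rfl fun j hj' => by rw [← hj j (Finset.mem_range.1 hj')]; ring
  refine ⟨?_, fun r => ?_⟩
  · have := lin fun _ => 1
    simpa [ht] using this
  · have := lin fun j => D.pairing r (D.simple j)
    simpa [prr, zsum_eq] using this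

theorem od_spec {r s : ℕ} (hr : r < D.nroots) (hs : s < D.nroots) {e : ℕ × ℕ × ℕ} (he : e ∈ od C r s) :
    e.1 < D.nroots ∧ 1 ≤ e.2.1 ∧ 1 ≤ e.2.2 ∧
      (∀ φ : ℕ → ℤ, IsAdd D C φ → φ e.1 = (e.2.1 : ℤ) * φ r + (e.2.2 : ℤ) * φ s) ∧
      (r ∈ posSet D → s ∈ posSet D → e.1 ∈ posSet D) := by
  obtain ⟨c, hc, rfl⟩ := List.mem_map.1 he
  have hc' := (List.mem_filter.1 hc).1
  obtain ⟨a, b, c', d⟩ := h.toRooted.toChecked.cTerms_spec hr hs c hc'
  exact ⟨a, b, c', d, fun hp hq => (h.toRooted.toChecked.cTerms_pos hp hq hc').1⟩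

theorem sR_spec {r s : ℕ} (hr : r < D.nroots) (hs : s < D.nroots) :
    sR D C r s < D.nroots ∧ cd D C (sR D C r s) = cd D C s - prr D C r s * cd D C r ∧
      ht D C (sR D C r s) = ht D C s - prr D C r s * ht D C r ∧
      ∀ a, prr D C a (sR D C r s) = prr D C a s - prr D C r s * prr D C a r := by
  obtain ⟨-, b, c, d, -⟩ := h.pair hr hs
  have lin : ∀ w : ℕ → ℤ, ∑ j ∈ Finset.range D.rank, w j * coef D C j (sR D C r s) =
      (∑ j ∈ Finset.range D.rank, w j * coef D C j s) -
        prr D C r s * ∑ j ∈ Finset.range D.rank, w j * coef D C j r := fun w => by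
    rw [Finset.mul_sum, ← Finset.sum_sub_distrib]
    exact Finset.sum_congr rfl fun j hj => by rw [d j (Finset.mem_range.1 hj)]; ring
  refine ⟨b, c, ?_, fun a => ?_⟩
  · have := lin fun _ => 1
    simpa [ht] using this
  · have := lin fun j => D.pairing a (D.simple j)
    simpa [prr, zsum_eq] using this

theorem sR_sR {r s : ℕ} (hr : r < D.nroots) (hs : s < D.nroots) : sR D C r (sR D C r s) = s := by
  obtain ⟨a, b, -, d⟩ := h.sR_spec hr hs
  obtain ⟨a', b', -, -⟩ := h.sR_spec hr a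
  refine h.eq_of_cd a' hs ?_
  rw [b', b, d r, h.prr_self hr]
  ring

/-! ### Relations in characteristic two -/

local notation "X" => xg h.toRooted.toChecked

theorem evenTerms_of_od {r s : ℕ} (e : od C r s = []) : evenTerms C r s = true := by
  simp only [od, List.map_eq_nil_iff, List.filter_eq_nil_iff, bne_iff_ne, not_not] at e
  simp only [evenTerms, List.all_eq_true, beq_iff_eq]
  exact e

theorem commute_of_nonneg [CharP F 2] {r s : ℕ} (hr : r < D.nroots) (hs : s < D.nroots)
    (e : 0 ≤ prr D C r s) (a b : F) : Commute (X r a) (X s b) := by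
  refine xg_commute h.toRooted.toChecked hr hs (fun e' => ?_) ?_ b a
  · rw [e', h.prr_ng_self hr] at e; omega
  · by_cases h1 : s = r
    · exact Or.inl h1
    · exact Or.inr (h.evenTerms_of_od (h.od_nil hr hs h1 e))

theorem conj_od [CharP F 2] {r s : ℕ} (hr : r < D.nroots) (hs : s < D.nroots) (h1 : s ≠ r)
    (h2 : s ≠ ng D r) (a b : F) :
    X s a * X r b * (X s a)⁻¹ = ((od C r s).map fun e => X e.1 (b ^ e.2.1 * a ^ e.2.2)).prod * X r b := by
  rw [conj_xg h.toRooted.toChecked hr hs h1 h2, od, List.map_map]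
  congr 1
  induction cTerms C r s with
  | nil => rfl
  | cons c l ih =>
    by_cases hc : c.2.1 % 2 = 0
    · rw [List.filter_cons_of_neg (by simp [hc]), List.map_cons, List.prod_cons, ih,
        natCast_even (F := F) hc, zero_mul, zero_mul, xg_zero, one_mul]
    · have hc1 : (c.2.1 : F) = 1 := by
        rw [← sub_eq_zero, ← Int.cast_one, ← Int.cast_sub]
        exact natCast_even (by omega)
      rw [List.filter_cons_of_pos (by simpa using hc), List.map_cons, List.prod_cons, List.map_cons,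
        List.prod_cons, ih, hc1, one_mul, CharTwo.neg_eq]
      rfl

/-- The element reflecting in a root. -/
theorem wel_conj [CharP F 2] {α : ℕ} (hα : α < D.nroots) : ∀ γ < D.nroots, ∀ t : F,
    X α 1 * X (ng D α) 1 * X α 1 * X γ t * (X α 1 * X (ng D α) 1 * X α 1)⁻¹ = X (sR D C α γ) t := by
  have hc := h.toRooted.toChecked
  revert α
  suffices key : ∀ α < D.nroots, ∀ γ < D.nroots, ∀ t : F,
      X α 1 * X (ng D α) 1 * X α 1 * X γ t * (X α 1 * X (ng D α) 1 * X α 1)⁻¹ = X (sR D C α γ) t from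
    fun {α} hα => key α hα
  have hrefl : ∀ i < D.rank, ∀ γ < D.nroots, refl C i γ = sR D C (D.simple i) γ := by
    have hb := h.even_ok
    simp only [chkEven, Bool.and_eq_true, allN_iff, natBeq_iff] at hb
    exact hb.1.2
  have hn : ∀ i < D.rank, ∀ γ < D.nroots, ∀ t : F,
      nS hc F i * X γ t * (nS hc F i)⁻¹ = X (refl C i γ) t := by
    intro i hi γ hγ t
    rw [mul_inv_eq_iff_eq_mul]
    have := hc.nS_conj_x (F := F) hi hγ t
    have e1 : (eta C i γ : F) = 1 := by
      rcases eta_cases (C := C) i γ with e | e <;> simp [e, CharTwo.neg_eq]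
    rw [e1, one_mul] at this
    simp only [xg, dif_pos hγ, dif_pos (hc.refl_lt hi hγ)]
    exact this
  refine h.toRooted.root_induction (P := fun α => ∀ γ < D.nroots, ∀ t : F,
    X α 1 * X (ng D α) 1 * X α 1 * X γ t * (X α 1 * X (ng D α) 1 * X α 1)⁻¹ = X (sR D C α γ) t) ?_ ?_
  · intro i hi γ hγ t
    have e : nS hc F i = X (D.simple i) 1 * X (ng D (D.simple i)) 1 * X (D.simple i) 1 := by
      refine Units.ext ?_
      rw [coe_nS _ hi, Units.val_mul, Units.val_mul, coe_xg, coe_xg]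
      simp only [ChevalleyDatum.nMat, ChevalleyDatum.nWord, ChevalleyDatum.wordMat, hc.neg_eq (hc.simple_lt hi),
        List.map_cons, List.map_nil, List.prod_cons, List.prod_nil, mul_one, inv_one, CharTwo.neg_eq, mul_assoc]
    rw [← e, hn i hi γ hγ, hrefl i hi γ hγ]
  · intro i hi α hα ih γ hγ t
    obtain ⟨γ₀, hγ₀, rfl⟩ : ∃ γ₀ < D.nroots, refl C i γ₀ = γ :=
      ⟨refl C i γ, hc.refl_lt hi hγ, hc.refl_refl hi hγ⟩
    have hng := Checked.ng_lt (D := D) hα
    have e : X (refl C i α) (1 : F) * X (ng D (refl C i α)) 1 * X (refl C i α) 1 =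
        nS hc F i * (X α 1 * X (ng D α) 1 * X α 1) * (nS hc F i)⁻¹ := by
      rw [← hc.refl_ng hi hα, ← hn i hi α hα, ← hn i hi _ hng]
      group
    obtain ⟨hlt, hcd, -, hlin⟩ := h.sR_spec hα hγ₀
    have hW := hn i hi _ hlt t
    rw [e, ← hn i hi γ₀ hγ₀ t]
    calc _ = nS hc F i * (X α 1 * X (ng D α) 1 * X α 1 * X γ₀ t * (X α 1 * X (ng D α) 1 * X α 1)⁻¹) *
          (nS hc F i)⁻¹ := by group
      _ = X (refl C i (sR D C α γ₀)) t := by rw [ih γ₀ hγ₀ t, hW]
      _ = _ := by
        congr 1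
        have hαi := hc.refl_lt hi hα
        have hγi := hc.refl_lt hi hγ₀
        have hsi := hc.simple_lt hi
        refine h.eq_of_cd (hc.refl_lt hi hlt) (h.sR_spec hαi hγi).1 ?_
        have hp : prr D C (refl C i α) (refl C i γ₀) = prr D C α γ₀ := by
          rw [(h.pair hαi hγi).1, hc.pairing_refl hi hα hγ₀, ← (h.pair hα hγ₀).1]
        rw [(h.sR_spec hαi hγi).2.1, hp, hrefl i hi _ hlt, hrefl i hi _ hγ₀, hrefl i hi _ hα,
          (h.sR_spec hsi hlt).2.1, (h.sR_spec hsi hγ₀).2.1, (h.sR_spec hsi hα).2.1, hcd, hlin]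
        ring

end Doubly

end Cfsg.Agent.Lib.InvF4
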