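import Cfsg.Agent.Lib.InvF4.Pairs
import Cfsg.Agent.Lib.ChevCent.RootPair
import Cfsg.Agent.Lib.Chev.BorelTits

/-!
Root subsystems of doubly laced data.
-/

set_option autoImplicit false

namespace Cfsg.Agent.Lib.InvF4

open Cfsg.Lie Cfsg.Agent.Lib.Chev Cfsg.Agent.Lib.ChevCent
open Cfsg.Agent.Lib.InvE66 (posOf posOf_subset)
open Cfsg.Agent.Lib.InvE66.Laced (rootGen_le_of_gen xg_inv_two xg_mul_self)
open scoped Matrix

/-- A set of roots closed under negatives, reflections and combinations of commutators. -/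
structure IsSub (D : ChevalleyDatum) (C : Cert) (Ψ : Set ℕ) : Prop where
  lt : ∀ r ∈ Ψ, r < D.nroots
  ng_mem : ∀ r ∈ Ψ, ng D r ∈ Ψ
  sR_mem : ∀ r ∈ Ψ, ∀ s ∈ Ψ, sR D C r s ∈ Ψ
  tm_mem : ∀ r ∈ Ψ, ∀ s ∈ Ψ, ∀ c ∈ cTerms C r s, c.1 ∈ Ψ

/-- The roots orthogonal to all roots of a list. -/
def orthSet (D : ChevalleyDatum) (C : Cert) (L : List ℕ) : Set ℕ :=
  {r | r < D.nroots ∧ ∀ β ∈ L, prr D C β r = 0}

/-- A positive root which is not the sum of two positive roots of the set. -/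
def Indec (D : ChevalleyDatum) (C : Cert) (Ψ : Set ℕ) (r : ℕ) : Prop :=
  r ∈ posOf D Ψ ∧ ∀ a ∈ posOf D Ψ, ∀ b ∈ posOf D Ψ, cd D C a + cd D C b ≠ cd D C r

variable {D : ChevalleyDatum} {C : Cert} {F : Type*} [Field F]

namespace Doubly

variable (h : Doubly D C)
include h

local notation "X" => xg h.toRooted.toChecked

theorem isSub_orthSet (L : List ℕ) : IsSub D C (orthSet D C L) where
  lt _ hr := hr.1
  ng_mem r hr := ⟨Checked.ng_lt hr.1, fun β hβ => by rw [h.prr_ng hr.1, hr.2 β hβ, neg_zero]⟩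
  sR_mem r hr s hs := ⟨(h.sR_spec hr.1 hs.1).1, fun β hβ => by
    rw [(h.sR_spec hr.1 hs.1).2.2.2 β, hr.2 β hβ, hs.2 β hβ, mul_zero, sub_zero]⟩
  tm_mem r hr s hs c hc := by
    obtain ⟨a, -, -, b⟩ := h.toRooted.toChecked.cTerms_spec hr.1 hs.1 c hc
    exact ⟨a, fun β hβ => by rw [b _ (h.isAdd_prr β), hr.2 β hβ, hs.2 β hβ]; ring⟩

theorem closed_of_terms {S : Set ℕ} (hcl : ∀ r ∈ S, ∀ s ∈ S, ∀ c ∈ cTerms C r s, c.1 ∈ S) :
    ClosedSet D C S := fun r hr s hs _ _ c hc => hcl r hr s hs c hc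

theorem od_mem_of_tm {S : Set ℕ} {r s : ℕ} (hS : ∀ c ∈ cTerms C r s, c.1 ∈ S) {e : ℕ × ℕ × ℕ}
    (he : e ∈ od C r s) : e.1 ∈ S := by
  obtain ⟨c, hc, rfl⟩ := List.mem_map.1 he
  exact hS c (List.mem_filter.1 hc).1

theorem closed_posOf {Ψ : Set ℕ} (hΨ : IsSub D C Ψ) : ClosedSet D C (posOf D Ψ) :=
  h.closed_of_terms fun r hr s hs c hc =>
    ⟨hΨ.tm_mem r hr.1 s hs.1 c hc, (h.toRooted.toChecked.cTerms_pos hr.2 hs.2 hc).1⟩

theorem xg_mem {S : Set ℕ} {r : ℕ} (hr : r ∈ S) (t : F) : X r t ∈ rootGen D F S := xg_mem_rootGen _ hr t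

theorem prod_od_mem [CharP F 2] {N : Subgroup (GL D.Idx F)} {r s : ℕ}
    (hN : ∀ e ∈ od C r s, ∀ t : F, X e.1 t ∈ N) (a b : F) :
    ((od C r s).map fun e => X e.1 (b ^ e.2.1 * a ^ e.2.2)).prod ∈ N :=
  list_prod_mem fun x hx => by
    obtain ⟨e, he, rfl⟩ := List.mem_map.1 hx
    exact hN e he _

/-- A root normalises the group of a set absorbing its odd terms. -/
theorem norm_of_od [CharP F 2] {S : Set ℕ} (hS : S ⊆ posSet D) {a : ℕ} (ha : a ∈ posSet D)
    (hod : ∀ s ∈ S, s ≠ a → ∀ e ∈ od C s a, e.1 ∈ S) (t : F) :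
    X a t ∈ Subgroup.normalizer (rootGen D F S : Set (GL D.Idx F)) := by
  have key : ∀ g ∈ rootGen D F S, X a t * g * (X a t)⁻¹ ∈ rootGen D F S := by
    intro g hg
    induction hg using Subgroup.closure_induction with
    | mem g hg =>
      obtain ⟨s, u, hs, e⟩ := hg
      rw [show g = X s u from Units.ext (by rw [e, coe_xg])]
      by_cases hne : s = a
      · subst hne
        rw [(h.commute_of_nonneg ha.2 ha.2 (by rw [h.prr_self ha.2]; norm_num) t u).eq, mul_inv_cancel_right]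
        exact h.xg_mem hs u
      rw [h.conj_od (hS hs).2 ha.2 (Ne.symm hne)
        (Checked.ne_ng_of_pos (hS hs) ha h.toRooted.toChecked.two_mul_half)]
      exact mul_mem (h.prod_od_mem (fun e he v => h.xg_mem (hod s hs hne e he) v) _ _) (h.xg_mem hs u)
    | one => simp
    | mul x y _ _ hx hy => have := mul_mem hx hy; simpa [mul_assoc] using this
    | inv x _ hx => have := inv_mem hx; simpa [mul_assoc] using this
  rw [Subgroup.mem_normalizer_iff]
  intro g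
  refine ⟨key g, fun hg => ?_⟩
  have := key _ hg
  rwa [xg_inv_two, ← mul_assoc, ← mul_assoc, xg_mul_self, one_mul, mul_assoc, xg_mul_self, mul_one] at this

/-- Splitting off one root. -/
theorem split [CharP F 2] {S : Set ℕ} (hS : S ⊆ posSet D) {γ : ℕ} (hγ : γ ∈ S)
    (hod : ∀ s ∈ S, s ≠ γ → ∀ e ∈ od C s γ, e.1 ∈ S ∧ e.1 ≠ γ) {g : GL D.Idx F} (hg : g ∈ rootGen D F S) :
    ∃ t : F, ∃ n ∈ rootGen D F (S \ {γ}), g = X γ t * n := by
  have hnorm : D.rootSubgroup F γ ≤ Subgroup.normalizer (rootGen D F (S \ {γ}) : Set (GL D.Idx F)) := by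
    intro x hx
    obtain ⟨t, rfl⟩ := (rootSubgroup_eq_range h.toRooted.toChecked γ).1 hx
    exact h.norm_of_od (fun a ha => hS ha.1) (hS hγ) (fun s hs hne e he => hod s hs.1 hne e he) t
  have hle : rootGen D F S ≤ D.rootSubgroup F γ ⊔ rootGen D F (S \ {γ}) :=
    rootGen_le_of_gen h.toRooted.toChecked fun s hs t => by
      by_cases e : s = γ
      · subst e
        exact Subgroup.mem_sup_left (Subgroup.subset_closure ⟨t, coe_xg _ _ t⟩)
      · exact Subgroup.mem_sup_right (h.xg_mem (S := S \ {γ}) ⟨hs, e⟩ t)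
  have hg' : g ∈ (↑(D.rootSubgroup F γ ⊔ rootGen D F (S \ {γ})) : Set (GL D.Idx F)) := hle hg
  rw [Subgroup.coe_mul_of_left_le_normalizer_right _ _ hnorm] at hg'
  obtain ⟨x, hx, n, hn, rfl⟩ := hg'
  obtain ⟨t, rfl⟩ := (rootSubgroup_eq_range h.toRooted.toChecked γ).1 hx
  exact ⟨t, n, hn, rfl⟩

theorem xg_mem_iff {S : Set ℕ} (hS : S ⊆ posSet D) (hcl : ClosedSet D C S) {γ : ℕ} (hγ : γ ∈ posSet D)
    (hnot : γ ∉ S) {t : F} (e : X γ t ∈ rootGen D F S) : t = 0 := by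
  have h1 : ClosedSet D C {γ} := by
    intro r hr s hs hne _ _ _
    exact absurd (hs.trans hr.symm) hne
  have h2 := h.toRooted.mem_rootGen_inter (S := S) (T := {γ}) hS (by simpa using hγ) hcl h1 e
    (h.xg_mem (S := {γ}) rfl t)
  rw [Set.inter_singleton_eq_empty.2 hnot] at h2
  have h3 : X γ t = 1 := by simpa [rootGen] using h2
  have := word_injective h.toRooted (L := [γ]) (List.pairwise_singleton _ _) (by simpa using hγ)
    (f := fun _ => t) (g := fun _ => 0) (by simp [word, h3, xg_zero])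
  exact this γ List.mem_cons_self

/-- A congruence for commutators. -/
theorem comm_mem {N : Subgroup (GL D.Idx F)} {S : Set ℕ} {d : GL D.Idx F}
    (hnorm : rootGen D F S ≤ Subgroup.normalizer (N : Set (GL D.Idx F)))
    (hgen : ∀ r ∈ S, ∀ t : F, (X r t)⁻¹ * d * X r t * d⁻¹ ∈ N) {p : GL D.Idx F} (hp : p ∈ rootGen D F S) :
    p⁻¹ * d * p * d⁻¹ ∈ N := by
  induction hp using Subgroup.closure_induction with
  | mem g hg =>
    obtain ⟨r, t, hr, e⟩ := hg
    rw [show g = X r t from Units.ext (by rw [e, coe_xg])]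
    exact hgen r hr t
  | one => simp
  | mul x y _ hy hx' hy' =>
    have h1 := (Subgroup.mem_normalizer_iff.1 (hnorm (inv_mem hy)) _).1 hx'
    have := mul_mem h1 hy'
    convert this using 1
    group
  | inv x hx hx' =>
    have h1 := (Subgroup.mem_normalizer_iff.1 (hnorm hx) _).1 (inv_mem hx')
    convert h1 using 1
    group

/-- The commutator of two root elements. -/
theorem comm_gen [CharP F 2] {N : Subgroup (GL D.Idx F)} {r s : ℕ} (hr : r ∈ posSet D) (hs : s ∈ posSet D)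
    (hterm : ∀ e ∈ od C r s, ∀ t : F, X e.1 t ∈ N)
    (hnorm : ∀ t : F, X r t ∈ Subgroup.normalizer (N : Set (GL D.Idx F))) (a b : F) :
    (X r b)⁻¹ * X s a * X r b * (X s a)⁻¹ ∈ N := by
  by_cases hne : s = r
  · subst hne
    rw [mul_assoc, mul_assoc, ← mul_assoc (X s a),
      (h.commute_of_nonneg hr.2 hs.2 (by rw [h.prr_self hr.2]; norm_num) a b).eq]
    simp
  rw [mul_assoc, mul_assoc, ← mul_assoc (X s a),
    h.conj_od hr.2 hs.2 hne (Checked.ne_ng_of_pos hr hs h.toRooted.toChecked.two_mul_half), ← mul_assoc]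
  exact (Subgroup.mem_normalizer_iff''.1 (hnorm b) _).1 (h.prod_od_mem hterm _ _)

end Doubly

end Cfsg.Agent.Lib.InvF4
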