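import Cfsg.Agent.Lib.InvF4.Sub

/-!
An involution with a nonzero coefficient at an indecomposable root `r` of a subsystem is conjugate to `x_r(c)`
times an involution in the roots orthogonal to `r`, for doubly laced data in characteristic two.
-/

set_option autoImplicit false

namespace Cfsg.Agent.Lib.InvF4

open Cfsg.Lie Cfsg.Agent.Lib.Chev Cfsg.Agent.Lib.ChevCent
open Cfsg.Agent.Lib.InvE66 (posOf posOf_subset)
open Cfsg.Agent.Lib.InvE66.Laced (rootGen_le_of_gen xg_inv_two xg_mul_self)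
open scoped Matrix

/-- The grading attached to a root. -/
def phiR (D : ChevalleyDatum) (C : Cert) (r γ : ℕ) : ℤ :=
  2 * Cfsg.Agent.Lib.Chev.ht D C γ - Cfsg.Agent.Lib.Chev.ht D C r * prr D C r γ

/-- The order of treatment. -/
def keyR (D : ChevalleyDatum) (C : Cert) (r γ : ℕ) : ℤ :=
  2 * phiR D C r γ + if prr D C r γ < 0 then 0 else 1

/-- The positive roots of the set other than `r`. -/
def restSet (D : ChevalleyDatum) (Ψ : Set ℕ) (r : ℕ) : Set ℕ := posOf D Ψ \ {r}

/-- The positive roots of the set orthogonal to `r`. -/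
def perpSet (D : ChevalleyDatum) (C : Cert) (Ψ : Set ℕ) (r : ℕ) : Set ℕ :=
  {γ | γ ∈ posOf D Ψ ∧ prr D C r γ = 0}

variable {D : ChevalleyDatum} {C : Cert} {F : Type*} [Field F]

namespace Doubly

variable (h : Doubly D C)
include h

local notation "X" => xg h.toRooted.toChecked
local notation "hgt" => Cfsg.Agent.Lib.Chev.ht D C

theorem isAdd_phiR (r : ℕ) : IsAdd D C (phiR D C r) := by
  refine ⟨fun a ha => ?_, fun a ha s k u M hk => ?_⟩
  · simp only [phiR, h.toRooted.toChecked.isAdd_ht.map_ng a ha, (h.isAdd_prr r).map_ng a ha]; ring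
  · simp only [phiR, h.toRooted.toChecked.isAdd_ht.map_chain a ha s k u M hk,
      (h.isAdd_prr r).map_chain a ha s k u M hk]
    ring

theorem phiR_self {r : ℕ} (hr : r < D.nroots) : phiR D C r r = 0 := by
  rw [phiR, h.prr_self hr]; ring

theorem commute_rootGen [CharP F 2] {r : ℕ} (hr : r < D.nroots) {S : Set ℕ}
    (hS : ∀ a ∈ S, a < D.nroots ∧ 0 ≤ prr D C r a) (c : F) {q : GL D.Idx F} (hq : q ∈ rootGen D F S) :
    Commute (X r c) q := by
  induction hq using Subgroup.closure_induction with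
  | mem g hg =>
    obtain ⟨a, u, ha, e⟩ := hg
    rw [show g = X a u from Units.ext (by rw [e, coe_xg])]
    exact h.commute_of_nonneg hr (hS a ha).1 (hS a ha).2 _ _
  | one => exact Commute.one_right _
  | mul x y _ _ hx hy => exact hx.mul_right hy
  | inv x _ hx => exact hx.inv_right

variable {Ψ : Set ℕ} (hΨ : IsSub D C Ψ) {r : ℕ} (hr : Indec D C Ψ r)
include hΨ hr

/-- The reflection in `r` preserves the other positive roots of the set. -/
theorem sR_rest {γ : ℕ} (hγ : γ ∈ restSet D Ψ r) :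
    sR D C r γ ∈ restSet D Ψ r ∧ prr D C r (sR D C r γ) = - prr D C r γ ∧
      phiR D C r (sR D C r γ) = phiR D C r γ := by
  have hc := h.toRooted.toChecked
  obtain ⟨hlt, hcd, hht, hlin⟩ := h.sR_spec hr.1.2.2 hγ.1.2.2
  have hmem : sR D C r γ ∈ Ψ := hΨ.sR_mem r hr.1.1 γ hγ.1.1
  have hp : prr D C r (sR D C r γ) = - prr D C r γ := by
    rw [hlin r, h.prr_self hr.1.2.2]; ring
  have hne : γ ≠ r := hγ.2
  have hγpos := (hc.cd_pos_iff hγ.1.2.2).2 hγ.1.2.1
  have hrpos := (hc.cd_pos_iff hr.1.2.2).2 hr.1.2.1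
  have hb := h.prr_bounds hr.1.2.2 hγ.1.2.2
  have hcd_ne : ∀ a ∈ posOf D Ψ, a ≠ r → cd D C a ≠ cd D C r := fun a ha hne' e =>
    hne' (h.eq_of_cd ha.2.2 hr.1.2.2 e)
  have hpos : sR D C r γ ∈ posSet D := by
    refine ⟨(hc.cd_pos_iff hlt).1 ?_, hlt⟩
    by_contra hle
    have hneg : cd D C (sR D C r γ) < 0 := by
      refine (hc.cd_neg_iff hlt).2 (Nat.lt_of_not_le fun hge => ?_)
      have := (hc.cd_pos_iff hlt).2 hge
      omega
    have hδ' : ng D (sR D C r γ) ∈ posOf D Ψ := by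
      refine ⟨hΨ.ng_mem _ hmem, (hc.cd_pos_iff (Checked.ng_lt hlt)).1 ?_, Checked.ng_lt hlt⟩
      rw [hc.isAdd_cd.map_ng _ hlt]; omega
    have hsum := hr.2 γ hγ.1 _ hδ'
    rw [hc.isAdd_cd.map_ng _ hlt] at hsum
    have hp2 : prr D C r γ = 2 := by
      by_contra h2
      rcases (show prr D C r γ ≤ 0 ∨ prr D C r γ = 1 by omega) with e | e
      · nlinarith [hcd, hneg, hγpos, hrpos, e]
      · rw [hcd, e] at hsum
        omega
    obtain ⟨h1, -, hm⟩ := (h.pair hr.1.2.2 hlt).2.2.2.2.2 (fun e => by rw [e] at hneg; omega)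
      (fun e => by
        rw [e, hc.isAdd_cd.map_ng _ hr.1.2.2, hp2] at hcd
        exact hcd_ne γ hγ.1 hne (by omega))
    obtain ⟨hm1, hm2⟩ := hm (by rw [hp, hp2])
    cases hod : od C r (sR D C r γ) with
    | nil => rw [hod] at hm1; simp at hm1
    | cons e l =>
      rw [hod, List.map_cons, List.cons.injEq] at hm1
      have he : e ∈ od C r (sR D C r γ) := by rw [hod]; exact List.mem_cons_self
      obtain ⟨hμlt, -, -, hμ, -⟩ := h.od_spec hr.1.2.2 hlt he
      have hμcd := hμ _ hc.isAdd_cd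
      rw [show e.2.1 = 1 from congrArg Prod.fst hm1.1, show e.2.2 = 1 from congrArg Prod.snd hm1.1] at hμcd
      have hμΨ : e.1 ∈ Ψ := by
        refine h.od_mem_of_tm (fun c hc' => hΨ.tm_mem r hr.1.1 _ hmem c hc') he
      rw [hp2] at hcd
      push_cast at hμcd
      by_cases hμp : D.nroots / 2 ≤ e.1
      · refine hr.2 e.1 ⟨hμΨ, hμp, hμlt⟩ _ hδ' ?_
        rw [hc.isAdd_cd.map_ng _ hlt]
        omega
      · refine hr.2 γ hγ.1 (ng D e.1) ⟨hΨ.ng_mem _ hμΨ, (hc.cd_pos_iff (Checked.ng_lt hμlt)).1 ?_,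
          Checked.ng_lt hμlt⟩ ?_
        · rw [hc.isAdd_cd.map_ng _ hμlt]
          have := (hc.cd_neg_iff hμlt).2 (Nat.lt_of_not_le hμp)
          omega
        · rw [hc.isAdd_cd.map_ng _ hμlt]
          omega
  refine ⟨⟨⟨hmem, hpos⟩, fun e => ?_⟩, hp, ?_⟩
  · rw [Set.mem_singleton_iff] at e
    rw [e, h.prr_self hr.1.2.2] at hp
    rw [e, show prr D C r γ = -2 by omega] at hcd
    nlinarith [hcd, hγpos, hrpos]
  · rw [phiR, phiR, hht, hp]; ring

theorem phiR_pos {γ : ℕ} (hγ : γ ∈ restSet D Ψ r) : 0 < phiR D C r γ := by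
  have hc := h.toRooted.toChecked
  obtain ⟨hδ, hp, -⟩ := h.sR_rest hΨ hr hγ
  have h1 := hc.ht_pos hγ.1.2.2 hγ.1.2.1
  have h2 := hc.ht_pos hδ.1.2.2 hδ.1.2.1
  have h3 := (h.sR_spec hr.1.2.2 hγ.1.2.2).2.2.1
  rw [phiR]
  rw [h3] at h2
  rw [mul_comm (hgt r)]
  omega

theorem rest_tm {a b : ℕ} (ha : a ∈ restSet D Ψ r) (hb : b ∈ restSet D Ψ r) {c : ℕ × ℤ × ℕ × ℕ}
    (hc : c ∈ cTerms C a b) :
    c.1 ∈ restSet D Ψ r ∧ phiR D C r a < phiR D C r c.1 ∧ phiR D C r b < phiR D C r c.1 := by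
  obtain ⟨-, hi, hj, hlin⟩ := h.toRooted.toChecked.cTerms_spec ha.1.2.2 hb.1.2.2 c hc
  have e := hlin _ (h.isAdd_phiR r)
  have h1 := h.phiR_pos hΨ hr ha
  have h2 := h.phiR_pos hΨ hr hb
  have hi' : (1 : ℤ) ≤ c.2.2.1 := by exact_mod_cast hi
  have hj' : (1 : ℤ) ≤ c.2.2.2 := by exact_mod_cast hj
  have l1 : phiR D C r a ≤ (c.2.2.1 : ℤ) * phiR D C r a := le_mul_of_one_le_left h1.le hi'
  have l2 : phiR D C r b ≤ (c.2.2.2 : ℤ) * phiR D C r b := le_mul_of_one_le_left h2.le hj'
  refine ⟨⟨⟨hΨ.tm_mem a ha.1.1 b hb.1.1 c hc,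
    (h.toRooted.toChecked.cTerms_pos ha.1.2 hb.1.2 hc).1⟩, fun e' => ?_⟩, by omega, by omega⟩
  rw [Set.mem_singleton_iff.1 e', h.phiR_self hr.1.2.2] at e
  omega

theorem rest_od {a b : ℕ} (ha : a ∈ restSet D Ψ r) (hb : b ∈ restSet D Ψ r) {e : ℕ × ℕ × ℕ}
    (he : e ∈ od C a b) :
    e.1 ∈ restSet D Ψ r ∧ phiR D C r a < phiR D C r e.1 ∧ phiR D C r b < phiR D C r e.1 :=
  h.od_mem_of_tm (S := {x | x ∈ restSet D Ψ r ∧ phiR D C r a < phiR D C r x ∧ phiR D C r b < phiR D C r x})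
    (fun _ hc => h.rest_tm hΨ hr ha hb hc) he

theorem rest_add {a : ℕ} (ha : a ∈ restSet D Ψ r) {e : ℕ × ℕ × ℕ} (he : e ∈ od C r a) :
    e.1 ∈ restSet D Ψ r ∧ 1 ≤ e.2.1 ∧ 1 ≤ e.2.2 ∧ phiR D C r e.1 = (e.2.2 : ℤ) * phiR D C r a ∧
      prr D C r e.1 = 2 * (e.2.1 : ℤ) + (e.2.2 : ℤ) * prr D C r a := by
  obtain ⟨hlt, hi, hj, hlin, hpos⟩ := h.od_spec hr.1.2.2 ha.1.2.2 he
  have e1 := hlin _ (h.isAdd_phiR r)
  rw [h.phiR_self hr.1.2.2, mul_zero, zero_add] at e1
  refine ⟨⟨⟨h.od_mem_of_tm (fun c hc => hΨ.tm_mem r hr.1.1 a ha.1.1 c hc) he, hpos hr.1.2 ha.1.2⟩,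
    fun e' => ?_⟩, hi, hj, e1, ?_⟩
  · have h1 := h.phiR_pos hΨ hr ha
    rw [Set.mem_singleton_iff.1 e', h.phiR_self hr.1.2.2] at e1
    have : (0 : ℤ) < (e.2.2 : ℤ) * phiR D C r a := mul_pos (by exact_mod_cast hj) h1
    omega
  · rw [hlin _ (h.isAdd_prr r), h.prr_self hr.1.2.2]; ring

omit h hΨ hr in
theorem perp_sub_rest (h : Doubly D C) (hr : r < D.nroots) : perpSet D C Ψ r ⊆ restSet D Ψ r := fun γ hγ => by
  refine ⟨hγ.1, fun e => ?_⟩
  have h0 := hγ.2
  rw [Set.mem_singleton_iff.1 e, h.prr_self hr] at h0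
  omega

theorem closed_perp : ClosedSet D C (perpSet D C Ψ r) :=
  h.closed_of_terms fun a ha b hb c hc => by
    have hp := h.rest_tm hΨ hr (perp_sub_rest h hr.1.2.2 ha) (perp_sub_rest h hr.1.2.2 hb) hc
    refine ⟨hp.1.1, ?_⟩
    rw [(h.toRooted.toChecked.cTerms_spec ha.1.2.2 hb.1.2.2 c hc).2.2.2 _ (h.isAdd_prr r), ha.2, hb.2]
    ring

/-- The sweep. -/
theorem sweep [CharP F 2] {c : F} (hc : c ≠ 0) : ∀ T : Finset ℕ, (∀ a ∈ T, a ∈ restSet D Ψ r) →
    (∀ a ∈ T, ∀ b ∈ restSet D Ψ r, keyR D C r a < keyR D C r b → b ∈ T) →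
    ∀ p ∈ rootGen D F (perpSet D C Ψ r), ∀ w ∈ rootGen D F (T : Set ℕ),
      X r c * p * w * (X r c * p * w) = 1 →
      ∃ g ∈ rootGen D F Ψ, ∃ p' ∈ rootGen D F (perpSet D C Ψ r),
        g * (X r c * p * w) * g⁻¹ = X r c * p' := by
  intro T
  induction T using Finset.strongInductionOn with
  | _ T ih =>
  intro hsub hup p hp w hw hsq
  have hk := h.toRooted.toChecked
  rcases T.eq_empty_or_nonempty with rfl | hne
  · have : w = 1 := by simpa [rootGen] using hw
    exact ⟨1, one_mem _, p, hp, by simp [this]⟩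
  obtain ⟨γ, hγ, hmin⟩ := Finset.exists_min_image T (keyR D C r) hne
  have hγK := hsub γ hγ
  have hhigh : ∀ b ∈ restSet D Ψ r, phiR D C r γ < phiR D C r b → b ∈ T ∧ b ≠ γ := fun b hb hlt => by
    refine ⟨hup γ hγ b hb ?_, fun e => by subst e; omega⟩
    simp only [keyR]; split_ifs <;> omega
  have hle : ∀ a ∈ T, phiR D C r γ ≤ phiR D C r a := fun a ha => by
    have := hmin a ha
    simp only [keyR] at this
    split_ifs at this <;> omega
  set T' := T.erase γ with hT'
  have hhigh' : ∀ b ∈ restSet D Ψ r, phiR D C r γ < phiR D C r b → b ∈ T' := fun b hb hlt =>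
    Finset.mem_erase.2 ⟨(hhigh b hb hlt).2, (hhigh b hb hlt).1⟩
  have hTpos : (T : Set ℕ) ⊆ posSet D := fun a ha => (hsub a ha).1.2
  have hT'set : ((T : Set ℕ) \ {γ}) = (T' : Set ℕ) := by rw [hT', Finset.coe_erase]
  obtain ⟨t, n, hn, rfl⟩ := h.split (S := (T : Set ℕ)) hTpos hγ (fun s hs _ e he => by
    obtain ⟨h1, h2, -⟩ := h.rest_od hΨ hr (hsub s hs) hγK he
    have := hle s hs
    exact hhigh e.1 h1 (by omega)) hw
  rw [hT'set] at hn
  have hT'sub : ∀ a ∈ T', a ∈ restSet D Ψ r := fun a ha => hsub a (Finset.mem_of_mem_erase ha)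
  have hT'up : ∀ a ∈ T', ∀ b ∈ restSet D Ψ r, keyR D C r a < keyR D C r b → b ∈ T' := fun a ha b hb hlt => by
    refine Finset.mem_erase.2 ⟨fun e => ?_, hup a (Finset.mem_of_mem_erase ha) b hb hlt⟩
    subst e
    have := hmin a (Finset.mem_of_mem_erase ha)
    omega
  have hT'lt := Finset.erase_ssubset hγ
  have hT'pos : (T' : Set ℕ) ⊆ posSet D := fun a ha => (hT'sub a ha).1.2
  have hnK : ∀ x ∈ restSet D Ψ r, ∀ u : F,
      X x u ∈ Subgroup.normalizer (rootGen D F (T' : Set ℕ) : Set (GL D.Idx F)) := fun x hx u =>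
    h.norm_of_od hT'pos hx.1.2 (fun s hs _ e he => by
      obtain ⟨h1, h2, -⟩ := h.rest_od hΨ hr (hT'sub s hs) hx he
      have := hle s (Finset.mem_of_mem_erase hs)
      exact hhigh' e.1 h1 (by omega)) u
  have hperp : perpSet D C Ψ r ⊆ restSet D Ψ r := perp_sub_rest h hr.1.2.2
  have hRp : ∀ q ∈ rootGen D F (perpSet D C Ψ r), Commute (X r c) q := fun q hq =>
    h.commute_rootGen hr.1.2.2 (fun a ha => ⟨ha.1.2.2, le_of_eq ha.2.symm⟩) c hq
  by_cases ht : t = 0
  · subst ht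
    rw [xg_zero, one_mul] at hsq ⊢
    exact ih T' hT'lt hT'sub hT'up p hp n hn hsq
  rcases lt_trichotomy (prr D C r γ) 0 with e | e | e
  · -- negative pairing: the square of the element has a nonzero coefficient
    exfalso
    obtain ⟨hδK, hpδ, hδφ⟩ := h.sR_rest hΨ hr hγK
    obtain ⟨-, hcdδ, -, hlinδ⟩ := h.sR_spec hr.1.2.2 hγK.1.2.2
    set δ := sR D C r γ with hδ
    have hδT : δ ∈ T' := by
      have hk' : keyR D C r γ < keyR D C r δ := by
        simp only [keyR, hpδ, hδφ]; split_ifs <;> omega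
      exact Finset.mem_erase.2 ⟨fun e' => by rw [e'] at hk'; omega, hup γ hγ δ hδK hk'⟩
    set T'' := T'.erase δ with hT''
    have hT''set : ((T' : Set ℕ) \ {δ}) = (T'' : Set ℕ) := by rw [hT'']; exact (Finset.coe_erase δ T').symm
    have hT''mem : ∀ a ∈ T'', a ∈ T ∧ a ≠ γ ∧ a ≠ δ := fun a ha =>
      ⟨Finset.mem_of_mem_erase (Finset.mem_of_mem_erase ha),
        (Finset.mem_erase.1 (Finset.mem_of_mem_erase ha)).1, (Finset.mem_erase.1 ha).1⟩
    have hhigh'' : ∀ b ∈ restSet D Ψ r, phiR D C r γ < phiR D C r b → b ∈ T'' := fun b hb hlt =>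
      Finset.mem_erase.2 ⟨fun e' => by rw [e', hδφ] at hlt; omega, hhigh' b hb hlt⟩
    have hT''pos : (T'' : Set ℕ) ⊆ posSet D := fun a ha => (hsub a (hT''mem a ha).1).1.2
    have hterm : ∀ a ∈ T, ∀ x ∈ restSet D Ψ r, ∀ e' ∈ od C a x, e'.1 ∈ T'' := fun a ha x hx e' he => by
      obtain ⟨h1, h2, -⟩ := h.rest_od hΨ hr (hsub a ha) hx he
      have := hle a ha
      exact hhigh'' e'.1 h1 (by omega)
    obtain ⟨d, n', hn', rfl⟩ := h.split (S := (T' : Set ℕ)) hT'pos hδT (fun s hs _ e' he => by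
      have := hterm s (Finset.mem_of_mem_erase hs) δ hδK e' he
      exact ⟨Finset.mem_of_mem_erase this, (Finset.mem_erase.1 this).1⟩) hn
    rw [hT''set] at hn'
    set N := rootGen D F (T'' : Set ℕ) with hN
    have hnN : ∀ x ∈ restSet D Ψ r, ∀ u : F, X x u ∈ Subgroup.normalizer (N : Set (GL D.Idx F)) := fun x hx u =>
      h.norm_of_od hT''pos hx.1.2 (fun s hs _ e' he => hterm s (hT''mem s hs).1 x hx e' he) u
    have hne1 : γ ≠ r := hγK.2
    have hne2 : γ ≠ ng D r := Checked.ne_ng_of_pos hr.1.2 hγK.1.2 hk.two_mul_half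
    obtain ⟨⟨-, hpq⟩, hm1, hm2⟩ := (h.pair hr.1.2.2 hγK.1.2.2).2.2.2.2.2 hne1 hne2
    -- membership of terms with `r`
    have hradd : ∀ a ∈ T, ∀ e' ∈ od C r a, e'.1 ≠ δ → e'.1 ∈ T'' := fun a ha e' he hne' => by
      obtain ⟨h1, h2, h3, h4, h5⟩ := h.rest_add hΨ hr (hsub a ha) he
      have hpa : prr D C r a < 0 := by
        by_contra hge
        have hane : a ≠ r := (hsub a ha).2
        rw [h.od_nil hr.1.2.2 (hsub a ha).1.2.2 hane (not_lt.1 hge)] at he
        simp at he
      have hkey : keyR D C r γ < keyR D C r e'.1 := by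
        have hb := h.prr_bounds hr.1.2.2 (hsub a ha).1.2.2
        have hla := hle a ha
        have hpos := h.phiR_pos hΨ hr (hsub a ha)
        by_cases hj : e'.2.2 = 1
        · rw [hj] at h4 h5
          simp only [Nat.cast_one, one_mul] at h4 h5
          have : 0 ≤ prr D C r e'.1 := by omega
          simp only [keyR, e, if_pos, h4]
          rw [if_neg (not_lt.2 this)]
          omega
        · have h6 : (2 : ℤ) * phiR D C r a ≤ (e'.2.2 : ℤ) * phiR D C r a :=
            mul_le_mul_of_nonneg_right (by exact_mod_cast (show 2 ≤ e'.2.2 by omega)) hpos.le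
          simp only [keyR, e, if_pos]
          split_ifs <;> omega
      exact Finset.mem_erase.2 ⟨hne', Finset.mem_erase.2
        ⟨fun e2 => by rw [e2] at hkey; omega, hup γ hγ e'.1 h1 hkey⟩⟩
    have hRN : X r c ∈ Subgroup.normalizer (N : Set (GL D.Idx F)) :=
      h.norm_of_od hT''pos hr.1.2 (fun s hs hsr e' he => by
        -- a term with `r` equal to `δ` would force `s = γ`
        obtain ⟨hsT, hsγ, -⟩ := hT''mem s hs
        obtain ⟨hlt', hi', hj', hlin', -⟩ := h.od_spec (hsub s hsT).1.2.2 hr.1.2.2 he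
        have h1 : e'.1 ∈ restSet D Ψ r ∧ phiR D C r e'.1 = (e'.2.1 : ℤ) * phiR D C r s ∧
            prr D C r e'.1 = (e'.2.1 : ℤ) * prr D C r s + 2 * (e'.2.2 : ℤ) := by
          have hφ := hlin' _ (h.isAdd_phiR r)
          rw [h.phiR_self hr.1.2.2, mul_zero, add_zero] at hφ
          have hpp := hlin' _ (h.isAdd_prr r)
          rw [h.prr_self hr.1.2.2] at hpp
          refine ⟨⟨⟨h.od_mem_of_tm (fun c hc => hΨ.tm_mem s (hsub s hsT).1.1 r hr.1.1 c hc) he,
            (h.od_spec (hsub s hsT).1.2.2 hr.1.2.2 he).2.2.2.2 (hsub s hsT).1.2 hr.1.2⟩, fun e2 => ?_⟩, hφ,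
            by rw [hpp]; ring⟩
          have := h.phiR_pos hΨ hr (hsub s hsT)
          rw [Set.mem_singleton_iff.1 e2, h.phiR_self hr.1.2.2] at hφ
          have : (0 : ℤ) < (e'.2.1 : ℤ) * phiR D C r s := mul_pos (by exact_mod_cast hi') this
          omega
        have hps : prr D C r s < 0 := by
          by_contra hge
          have := h.od_nil (hsub s hsT).1.2.2 hr.1.2.2 (Ne.symm hsr)
            (h.prr_nonneg_comm hr.1.2.2 (hsub s hsT).1.2.2 (not_lt.1 hge))
          rw [this] at he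
          simp at he
        obtain ⟨h11, h12, h13⟩ := h1
        have hpos := h.phiR_pos hΨ hr (hsub s hsT)
        have hla := hle s hsT
        have hbs := h.prr_bounds hr.1.2.2 (hsub s hsT).1.2.2
        have hbδ := h.prr_bounds hr.1.2.2 h11.1.2.2
        have hkey : keyR D C r γ < keyR D C r e'.1 := by
          by_cases hi1 : e'.2.1 = 1
          · rw [hi1] at h12 h13
            simp only [Nat.cast_one, one_mul] at h12 h13
            have : 0 ≤ prr D C r e'.1 := by
              have : (1 : ℤ) ≤ (e'.2.2 : ℤ) := by exact_mod_cast hj'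
              omega
            simp only [keyR, e, if_pos, h12]
            rw [if_neg (not_lt.2 this)]
            omega
          · have h6 : (2 : ℤ) * phiR D C r s ≤ (e'.2.1 : ℤ) * phiR D C r s :=
              mul_le_mul_of_nonneg_right (by exact_mod_cast (show 2 ≤ e'.2.1 by omega)) hpos.le
            simp only [keyR, e, if_pos]
            split_ifs <;> omega
        refine Finset.mem_erase.2 ⟨fun e2 => hsγ ?_, Finset.mem_erase.2
          ⟨fun e2 => by rw [e2] at hkey; omega, hup γ hγ e'.1 h11 hkey⟩⟩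
        rw [e2] at h12 h13
        rw [hδφ] at h12
        have hi1 : e'.2.1 = 1 := by
          by_contra hi1
          have h6 : (2 : ℤ) * phiR D C r s ≤ (e'.2.1 : ℤ) * phiR D C r s :=
            mul_le_mul_of_nonneg_right (by exact_mod_cast (show 2 ≤ e'.2.1 by omega)) hpos.le
          omega
        rw [hi1, Nat.cast_one, one_mul] at h13
        have hcde := hlin' _ hk.isAdd_cd
        rw [e2, hcdδ, hi1] at hcde
        refine h.eq_of_cd (hsub s hsT).1.2.2 hγK.1.2.2 ?_
        rw [hpδ] at h13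
        have hj1 : (e'.2.2 : ℤ) = - prr D C r γ := by
          rcases (show prr D C r γ = -1 ∨ prr D C r γ = -2 by have := h.prr_bounds hr.1.2.2 hγK.1.2.2; omega)
            with e3 | e3 <;> rw [e3] at h13 ⊢ <;>
            rcases (show prr D C r s = -1 ∨ prr D C r s = -2 by omega) with e4 | e4 <;> rw [e4] at h13 <;> omega
        rw [hj1] at hcde
        push_cast at hcde
        nlinarith [hcde]) c
    have hpN : p ∈ Subgroup.normalizer (N : Set (GL D.Idx F)) :=
      rootGen_le_of_gen hk (fun a ha u => hnN a (hperp ha) u) hp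
    set R := X r c with hR
    set G := X γ t with hG
    set E := X δ d with hE
    have hpνpos : 0 < prr D C r δ := by rw [hpδ]; omega
    have hRE : Commute R E := h.commute_of_nonneg hr.1.2.2 hδK.1.2.2 hpνpos.le _ _
    have hGE : Commute G E := h.commute_of_nonneg hγK.1.2.2 hδK.1.2.2 (by
      rw [hlinδ γ, h.prr_self hγK.1.2.2]; nlinarith [hpq]) _ _
    -- the leading term
    obtain ⟨v, hv, n₁, hn₁, hRGR⟩ : ∃ v : F, v ≠ 0 ∧ ∃ n₁ ∈ N, R * G * R = X δ v * n₁ * G := by
      set Qd := ((od C r γ).map fun e' => X e'.1 (c ^ e'.2.1 * t ^ e'.2.2)).prod with hQd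
      have h1 : G * R * G⁻¹ = Qd * R := h.conj_od hr.1.2.2 hγK.1.2.2 hne1 hne2 t c
      have hcommR : Commute R Qd := Commute.list_prod_right _ _ fun x hx => by
        obtain ⟨e', he, rfl⟩ := List.mem_map.1 hx
        obtain ⟨h1', h2', h3', -, h5'⟩ := h.rest_add hΨ hr hγK he
        refine h.commute_of_nonneg hr.1.2.2 h1'.1.2.2 ?_ _ _
        rcases (show prr D C r γ = -1 ∨ prr D C r γ = -2 by have := h.prr_bounds hr.1.2.2 hγK.1.2.2; omega)
          with e3 | e3
        · obtain ⟨hd1, hd2⟩ := hm1 e3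
          cases hod : od C r γ with
          | nil => rw [hod] at he; simp at he
          | cons a l =>
            rw [hod] at he hd1 hd2
            rcases List.mem_cons.1 he with rfl | he
            · simp only [List.head?_cons, Option.some.injEq] at hd1
              rw [hd1]; exact hpνpos.le
            · obtain ⟨q1, q2⟩ := hd2 e' (by simpa using he)
              rw [h5', e3, q1, q2]; norm_num
        · obtain ⟨hd1, -⟩ := hm2 e3
          have : e'.2 ∈ [((1 : ℕ), (1 : ℕ)), (2, 1)] := hd1 ▸ List.mem_map_of_mem he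
          simp only [List.mem_cons, List.not_mem_nil, or_false] at this
          rcases this with q | q <;> rw [h5', e3, q] <;> norm_num
      have h2 : R * G * R = Qd * G := by
        have h3 : G * R = Qd * R * G := by rw [← h1]; group
        calc R * G * R = R * (G * R) := by rw [mul_assoc]
          _ = R * Qd * R * G := by rw [h3]; simp only [mul_assoc]
          _ = Qd * (R * R) * G := by rw [hcommR.eq]; simp only [mul_assoc]
          _ = _ := by rw [hR, xg_mul_self, mul_one]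
      rw [h2]
      rcases (show prr D C r γ = -1 ∨ prr D C r γ = -2 by have := h.prr_bounds hr.1.2.2 hγK.1.2.2; omega)
        with e3 | e3
      · obtain ⟨hd1, hd2⟩ := hm1 e3
        cases hod : od C r γ with
        | nil => rw [hod] at hd1; simp at hd1
        | cons a l =>
          rw [hod] at hd1 hd2
          simp only [List.head?_cons, Option.some.injEq] at hd1
          refine ⟨c * t, mul_ne_zero hc ht, (l.map fun e' => X e'.1 (c ^ e'.2.1 * t ^ e'.2.2)).prod,
            list_prod_mem fun x hx => ?_, by rw [hQd, hod, List.map_cons, List.prod_cons, hd1, pow_one, pow_one]⟩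
          obtain ⟨e', he, rfl⟩ := List.mem_map.1 hx
          have hmem : e' ∈ od C r γ := by rw [hod]; exact List.mem_cons_of_mem _ he
          obtain ⟨h1', -, -, h4', -⟩ := h.rest_add hΨ hr hγK hmem
          refine h.xg_mem (hhigh'' _ h1' ?_) _
          rw [h4', (hd2 e' (by simpa using he)).2]
          have := h.phiR_pos hΨ hr hγK
          push_cast
          omega
      · obtain ⟨hd1, hd2⟩ := hm2 e3
        obtain ⟨a, b, hod⟩ : ∃ a b, od C r γ = [a, b] :=
          List.length_eq_two.1 (by have := congrArg List.length hd1; simpa using this)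
        rw [hod] at hd1 hd2
        simp only [List.map_cons, List.map_nil, List.cons.injEq, and_true] at hd1
        simp at hd2
        obtain ⟨ha, hb⟩ := hd1
        have hbN : X δ (c ^ 2 * t) ∈ Subgroup.normalizer (N : Set (GL D.Idx F)) := hnN δ hδK _
        have hamem : a ∈ od C r γ := by rw [hod]; exact List.mem_cons_self
        obtain ⟨h1', -, -, h4', h5'⟩ := h.rest_add hΨ hr hγK hamem
        have haδ : a.1 ≠ δ := fun e2 => by rw [e2, hpδ, ha, e3] at h5'; norm_num at h5'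
        refine ⟨c ^ 2 * t, mul_ne_zero (pow_ne_zero _ hc) ht,
          (X δ (c ^ 2 * t))⁻¹ * X a.1 (c * t) * X δ (c ^ 2 * t),
          (Subgroup.mem_normalizer_iff''.1 hbN _).1 (h.xg_mem (hradd γ hγ a hamem haδ) _), ?_⟩
        rw [hQd, hod]
        simp only [List.map_cons, List.map_nil, List.prod_cons, List.prod_nil, mul_one]
        rw [hd2, ha, hb]
        simp only [pow_one, xg_inv_two, ← mul_assoc, xg_mul_self, one_mul]
        rfl
    set E1 := X δ v with hE1
    have hGG : G * E * (G * E) = 1 := by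
      rw [mul_assoc, ← mul_assoc E G E, hGE.symm.eq, mul_assoc G E E, xg_mul_self, mul_one, xg_mul_self]
    have hcomm : ∀ x ∈ restSet D Ψ r, phiR D C r x = phiR D C r γ → ∀ u : F,
        p⁻¹ * X x u * p * (X x u)⁻¹ ∈ N := fun x hx hxφ u =>
      h.comm_mem (rootGen_le_of_gen hk fun a ha u' => hnN a (hperp ha) u')
        (fun a ha u' => h.comm_gen (hperp ha).1.2 hx.1.2 (fun e' he v' => by
          obtain ⟨h1, -, h3⟩ := h.rest_od hΨ hr (hperp ha) hx he
          exact h.xg_mem (hhigh'' _ h1 (by omega)) v') (fun u'' => hnN a (hperp ha) u'') u u') hp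
    set z := R * p * G * E with hz
    have hzN : z ∈ Subgroup.normalizer (N : Set (GL D.Idx F)) :=
      mul_mem (mul_mem (mul_mem hRN hpN) (hnN γ hγK t)) (hnN δ hδK d)
    have hz2 : z * z ∈ N := by
      have hsq' : z * n' * (z * n') = 1 := by rw [← hsq, hz]; simp only [mul_assoc]
      have h2 : z⁻¹ * n' * z ∈ N := (Subgroup.mem_normalizer_iff''.1 hzN n').1 hn'
      have e5 : z * z = (z⁻¹ * n' * z * n')⁻¹ := by
        rw [eq_inv_iff_mul_eq_one, ← hsq']; group
      rw [e5]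
      exact inv_mem (mul_mem h2 hn')
    have hzz : z * z = p * E1 * n₁ * (G * E) * p * (G * E) := by
      rw [hz]
      calc R * p * G * E * (R * p * G * E) = R * p * (G * (E * (R * (p * (G * E))))) := by
            simp only [mul_assoc]
        _ = p * R * (G * (E * (R * (p * (G * E))))) :=
            congrArg (· * (G * (E * (R * (p * (G * E)))))) (hRp p hp).eq
        _ = p * R * G * (E * R) * p * (G * E) := by simp only [mul_assoc]
        _ = p * (R * G * R) * E * p * (G * E) := by rw [← hRE.eq]; simp only [mul_assoc]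
        _ = _ := by rw [hRGR]; simp only [mul_assoc]
    have hcG : p⁻¹ * (G * E) * p * (G * E)⁻¹ ∈ N := by
      have h1 := hcomm γ hγK rfl t
      have h2 := hcomm δ hδK hδφ d
      rw [← hG] at h1
      rw [← hE] at h2
      have := mul_mem h1 ((Subgroup.mem_normalizer_iff.1 (hnN γ hγK t) _).1 h2)
      convert this using 1
      rw [← hG]
      group
    have hcE : p⁻¹ * E1 * p * E1⁻¹ ∈ N := hcomm δ hδK hδφ v
    have key : p * p * E1 ∈ N := by
      rw [hzz] at hz2
      have hGEinv : (G * E)⁻¹ = G * E := inv_eq_of_mul_eq_one_right hGG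
      rw [hGEinv] at hcG
      have e1 : p * E1 * p ∈ N := by
        have h6 : p * E1 * n₁ * (G * E) * p * (G * E) =
            p * E1 * p * ((p⁻¹ * n₁ * p) * (p⁻¹ * (G * E) * p * (G * E))) := by group
        rw [h6] at hz2
        exact (Subgroup.mul_mem_cancel_right _
          (mul_mem ((Subgroup.mem_normalizer_iff''.1 hpN _).1 hn₁) hcG)).1 hz2
      have h7 : p * E1 * p = p * p * (p⁻¹ * E1 * p * E1⁻¹) * (p * p)⁻¹ * (p * p * E1) := by group
      rw [h7] at e1
      exact (Subgroup.mul_mem_cancel_left _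
        ((Subgroup.mem_normalizer_iff.1 (mul_mem hpN hpN) _).1 hcE)).1 e1
    have hpp : p * p ∈ rootGen D F (T' : Set ℕ) := by
      have h8 : p * p = p * p * E1 * E1⁻¹ := by group
      rw [h8]
      exact mul_mem (rootGen_mono (Finset.coe_subset.2 (Finset.erase_subset _ _)) key)
        (inv_mem (h.xg_mem hδT _))
    have hclT' : ClosedSet D C (T' : Set ℕ) := h.closed_of_terms fun a ha b hb c' hc' => by
      obtain ⟨h1, h2, -⟩ := h.rest_tm hΨ hr (hT'sub a ha) (hT'sub b hb) hc'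
      have := hle a (Finset.mem_of_mem_erase ha)
      exact hhigh' _ h1 (by omega)
    have hpp' : p * p ∈ N := by
      refine rootGen_mono ?_ (h.toRooted.mem_rootGen_inter (fun a ha => ha.1.2) hT'pos (h.closed_perp hΨ hr)
        hclT' (mul_mem hp hp) hpp)
      rintro a ⟨ha1, ha2⟩
      refine Finset.mem_erase.2 ⟨fun e' => ?_, ha2⟩
      rw [e'] at ha1
      have := ha1.2
      omega
    have hclT'' : ClosedSet D C (T'' : Set ℕ) := h.closed_of_terms fun a ha b hb c' hc' => by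
      obtain ⟨h1, h2, -⟩ := h.rest_tm hΨ hr (hsub a (hT''mem a ha).1) (hsub b (hT''mem b hb).1) hc'
      have := hle a (hT''mem a ha).1
      exact hhigh'' _ h1 (by omega)
    exact hv (h.xg_mem_iff hT''pos hclT'' hδK.1.2 (by simp [hT''])
      ((Subgroup.mul_mem_cancel_left _ hpp').1 key))
  · -- pairing zero
    have hγC : γ ∈ perpSet D C Ψ r := ⟨hγK.1, e⟩
    have e2 : X r c * p * (X γ t * n) = X r c * (p * X γ t) * n := by simp only [mul_assoc]
    rw [e2] at hsq ⊢
    exact ih T' hT'lt hT'sub hT'up _ (mul_mem hp (h.xg_mem hγC t)) n hn hsq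
  · -- positive pairing: the coefficient is removed by conjugation
    obtain ⟨hδK, hpδ, hδφ⟩ := h.sR_rest hΨ hr hγK
    have hinv : sR D C r (sR D C r γ) = γ := h.sR_sR hr.1.2.2 hγK.1.2.2
    set δ := sR D C r γ with hδ
    have hpos : 0 < phiR D C r γ := h.phiR_pos hΨ hr hγK
    set N := rootGen D F (T' : Set ℕ) with hN
    have hne1 : δ ≠ r := hδK.2
    have hne2 : δ ≠ ng D r := Checked.ne_ng_of_pos hr.1.2 hδK.1.2 hk.two_mul_half
    obtain ⟨-, hm1, hm2⟩ := (h.pair hr.1.2.2 hδK.1.2.2).2.2.2.2.2 hne1 hne2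
    -- choose the conjugating coefficient
    obtain ⟨s, q, hq, n₃, hn₃, hdR⟩ : ∃ s : F, ∃ q ∈ rootGen D F (perpSet D C Ψ r), ∃ n₃ ∈ N,
        X δ s * X r c * (X δ s)⁻¹ = X r c * q * X γ t * n₃ := by
      rcases (show prr D C r γ = 1 ∨ prr D C r γ = 2 by have := h.prr_bounds hr.1.2.2 hγK.1.2.2; omega)
        with e3 | e3
      · obtain ⟨hd1, hd2⟩ := hm1 (by rw [hpδ, e3])
        refine ⟨t / c, ?_⟩
        rw [h.conj_od hr.1.2.2 hδK.1.2.2 hne1 hne2]
        cases hod : od C r δ with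
        | nil => rw [hod] at hd1; simp at hd1
        | cons a l =>
          rw [hod] at hd1 hd2
          simp only [List.head?_cons, Option.some.injEq] at hd1
          have hl : ∀ e' ∈ l, e'.1 ∈ restSet D Ψ r ∧ phiR D C r γ < phiR D C r e'.1 ∧ prr D C r e'.1 = 0 := by
            intro e' he
            have hmem : e' ∈ od C r δ := by rw [hod]; exact List.mem_cons_of_mem _ he
            obtain ⟨h1', -, -, h4', h5'⟩ := h.rest_add hΨ hr hδK hmem
            obtain ⟨q1, q2⟩ := hd2 e' (by simpa using he)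
            refine ⟨h1', ?_, ?_⟩
            · rw [h4', q2, hδφ]; push_cast; omega
            · rw [h5', q1, q2, hpδ, e3]; norm_num
          set n₃ := (l.map fun e' => X e'.1 (c ^ e'.2.1 * (t / c) ^ e'.2.2)).prod with hn₃
          have hn₃N : n₃ ∈ N := list_prod_mem fun x hx => by
            obtain ⟨e', he, rfl⟩ := List.mem_map.1 hx
            exact h.xg_mem (hhigh' _ (hl e' he).1 (hl e' he).2.1) _
          have hcR : Commute (X r c) n₃ := Commute.list_prod_right _ _ fun x hx => by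
            obtain ⟨e', he, rfl⟩ := List.mem_map.1 hx
            exact h.commute_of_nonneg hr.1.2.2 (hl e' he).1.1.2.2 (hl e' he).2.2.ge _ _
          refine ⟨1, one_mem _, n₃, hn₃N, ?_⟩
          have hRG : Commute (X r c) (X γ t) := h.commute_of_nonneg hr.1.2.2 hγK.1.2.2 e.le _ _
          rw [List.map_cons, List.prod_cons, hd1, hinv, pow_one, pow_one, ← hn₃, mul_div_cancel₀ _ hc, mul_one,
            mul_assoc, ← hcR.eq, ← mul_assoc, ← hRG.eq]
      · obtain ⟨hd1, hd2⟩ := hm2 (by rw [hpδ, e3])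
        refine ⟨t / c ^ 2, ?_⟩
        rw [h.conj_od hr.1.2.2 hδK.1.2.2 hne1 hne2]
        obtain ⟨a, b, hod⟩ : ∃ a b, od C r δ = [a, b] :=
          List.length_eq_two.1 (by have := congrArg List.length hd1; simpa using this)
        rw [hod] at hd1 hd2
        simp only [List.map_cons, List.map_nil, List.cons.injEq, and_true] at hd1
        simp at hd2
        have hamem : a ∈ od C r δ := by rw [hod]; exact List.mem_cons_self
        obtain ⟨h1', -, -, -, h5'⟩ := h.rest_add hΨ hr hδK hamem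
        have haC : a.1 ∈ perpSet D C Ψ r := ⟨h1'.1, by rw [h5', hd1.1, hpδ, e3]; norm_num⟩
        refine ⟨X a.1 (c * (t / c ^ 2)), h.xg_mem haC _, 1, one_mem _, ?_⟩
        have hRG : Commute (X r c) (X γ t) := h.commute_of_nonneg hr.1.2.2 hγK.1.2.2 e.le _ _
        have hRa : Commute (X r c) (X a.1 (c * (t / c ^ 2))) :=
          h.commute_of_nonneg hr.1.2.2 h1'.1.2.2 haC.2.ge _ _
        simp only [hod, List.map_cons, List.map_nil, List.prod_cons, List.prod_nil, mul_one]
        rw [hd1.1, hd1.2, hd2, hinv]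
        simp only [pow_one]
        rw [mul_div_cancel₀ _ (pow_ne_zero _ hc)]
        calc X a.1 (c * (t / c ^ 2)) * X γ t * X r c = X a.1 (c * (t / c ^ 2)) * (X r c * X γ t) := by
              rw [mul_assoc, hRG.eq]
          _ = _ := by rw [← mul_assoc, ← hRa.eq]
    set R := X r c with hR
    set G := X γ t with hG
    set d := X δ s with hd
    have hpN : rootGen D F (perpSet D C Ψ r) ≤ Subgroup.normalizer (N : Set (GL D.Idx F)) :=
      rootGen_le_of_gen hk fun a ha u => hnK a (hperp ha) u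
    have hcomm : ∀ x ∈ restSet D Ψ r, phiR D C r x = phiR D C r γ → ∀ u : F,
        p⁻¹ * X x u * p * (X x u)⁻¹ ∈ N := fun x hx hxφ u =>
      h.comm_mem hpN (fun a ha u' => h.comm_gen (hperp ha).1.2 hx.1.2 (fun e' he v' => by
          obtain ⟨h1, -, h3⟩ := h.rest_od hΨ hr (hperp ha) hx he
          exact h.xg_mem (hhigh' _ h1 (by omega)) v') (fun u'' => hnK a (hperp ha) u'') u u') hp
    have hk1 := hcomm δ hδK hδφ s
    have hk2 := hcomm γ hγK rfl t
    rw [← hd] at hk1
    rw [← hG] at hk2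
    have hk3 : G⁻¹ * d * G * d⁻¹ ∈ N := h.comm_gen hγK.1.2 hδK.1.2 (fun e' he v' => by
      obtain ⟨h1, h2, -⟩ := h.rest_od hΨ hr hγK hδK he
      exact h.xg_mem (hhigh' _ h1 h2) v') (fun u'' => hnK γ hγK u'') s t
    have hn' : d * n * d⁻¹ ∈ N := (Subgroup.mem_normalizer_iff.1 (hnK δ hδK s) _).1 hn
    have hGN : G ∈ Subgroup.normalizer (N : Set (GL D.Idx F)) := hnK γ hγK t
    have hGinv : G⁻¹ = G := xg_inv_two hk γ t
    set n'' := p⁻¹ * G * p * G⁻¹ * (G * ((p⁻¹ * n₃ * p) * (p⁻¹ * d * p * d⁻¹)) * G⁻¹) * (G⁻¹ * d * G * d⁻¹) *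
      (d * n * d⁻¹) with hn''
    have hn''N : n'' ∈ N := mul_mem (mul_mem (mul_mem hk2 ((Subgroup.mem_normalizer_iff.1 hGN _).1
      (mul_mem ((Subgroup.mem_normalizer_iff''.1 (hpN hp) _).1 hn₃) hk1))) hk3) hn'
    have hconj : d * (R * p * (G * n)) * d⁻¹ = R * (q * p) * n'' := by
      calc d * (R * p * (G * n)) * d⁻¹ =
            d * R * d⁻¹ * (p * (p⁻¹ * d * p * d⁻¹)) * (d * G * d⁻¹) * (d * n * d⁻¹) := by group
        _ = R * q * G * n₃ * (p * (p⁻¹ * d * p * d⁻¹)) * (d * G * d⁻¹) * (d * n * d⁻¹) := by rw [hdR]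
        _ = R * (q * p) * (p⁻¹ * G * p * G⁻¹ * (G * ((p⁻¹ * n₃ * p) * (p⁻¹ * d * p * d⁻¹)) * G) *
              (G⁻¹ * d * G * d⁻¹) * (d * n * d⁻¹)) := by group
        _ = _ := by rw [hn'', hGinv]
    have hsq' : R * (q * p) * n'' * (R * (q * p) * n'') = 1 := by
      rw [← hconj]
      calc _ = d * (R * p * (G * n) * (R * p * (G * n))) * d⁻¹ := by group
        _ = 1 := by rw [hsq]; group
    obtain ⟨g, hg, p', hp', eg⟩ := ih T' hT'lt hT'sub hT'up (q * p) (mul_mem hq hp) n'' hn''N hsq'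
    refine ⟨g * d, mul_mem hg (h.xg_mem hδK.1.1 s), p', hp', ?_⟩
    rw [← eg, ← hconj]
    group

/-- Reduction to the roots orthogonal to `r`. -/
theorem reduce [CharP F 2] {u : GL D.Idx F} (hu : u ∈ rootGen D F (posOf D Ψ)) (hsq : u * u = 1)
    (hnot : u ∉ rootGen D F (restSet D Ψ r)) :
    ∃ c : F, c ≠ 0 ∧ ∃ g ∈ rootGen D F Ψ, ∃ p ∈ rootGen D F (perpSet D C Ψ r),
      g * u * g⁻¹ = X r c * p ∧ p * p = 1 := by
  classical
  have hk := h.toRooted.toChecked
  obtain ⟨c, n, hn, rfl⟩ := h.split (posOf_subset Ψ) hr.1 (fun s hs hne e he => by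
    refine ⟨⟨h.od_mem_of_tm (fun c hc => hΨ.tm_mem s hs.1 r hr.1.1 c hc) he,
      (h.od_spec hs.2.2 hr.1.2.2 he).2.2.2.2 hs.2 hr.1.2⟩, fun e' => ?_⟩
    obtain ⟨-, hi, hj, hlin, -⟩ := h.od_spec hs.2.2 hr.1.2.2 he
    have hφ := hlin _ (h.isAdd_phiR r)
    rw [e', h.phiR_self hr.1.2.2, mul_zero, add_zero] at hφ
    have h1 := h.phiR_pos hΨ hr (show s ∈ restSet D Ψ r from ⟨hs, hne⟩)
    have : (0 : ℤ) < (e.2.1 : ℤ) * phiR D C r s := mul_pos (by exact_mod_cast hi) h1
    omega) hu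
  have hc : c ≠ 0 := by
    rintro rfl
    rw [xg_zero, one_mul] at hnot
    exact hnot hn
  set T : Finset ℕ := (Finset.range D.nroots).filter (· ∈ restSet D Ψ r) with hT
  have hTset : (T : Set ℕ) = restSet D Ψ r := by
    ext a
    simp only [hT, Finset.coe_filter, Finset.mem_range, Set.mem_ofPred_eq]
    exact ⟨fun ha => ha.2, fun ha => ⟨ha.1.2.2, ha⟩⟩
  have hmem : ∀ a, a ∈ T ↔ a ∈ restSet D Ψ r := fun a => by rw [← hTset]; rfl
  obtain ⟨g, hg, p, hp, eg⟩ := h.sweep hΨ hr hc T (fun a ha => (hmem a).1 ha)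
    (fun a _ b hb _ => (hmem b).2 hb) 1 (one_mem _) n (by rw [hTset]; exact hn) (by simpa using hsq)
  rw [mul_one] at eg
  refine ⟨c, hc, g, hg, p, hp, eg, ?_⟩
  have hcm : Commute (X r c) p :=
    h.commute_rootGen hr.1.2.2 (fun a ha => ⟨ha.1.2.2, le_of_eq ha.2.symm⟩) c hp
  have h2 : (X r c * p) * (X r c * p) = 1 := by
    rw [← eg]
    calc _ = g * (X r c * n * (X r c * n)) * g⁻¹ := by group
      _ = 1 := by rw [hsq]; group
  rw [← hcm.mul_mul_mul_comm, xg_mul_self, one_mul] at h2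
  exact h2

end Doubly

end Cfsg.Agent.Lib.InvF4
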